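import Cfsg.Agent.H950.TC.Psu_mg_m3
import Cfsg.Agent.H68.CoInst_m3
import Cfsg.Agent.S0245
import Cfsg.Agent.S0246
import Cfsg.Agent.H156.SqPSp
import Cfsg.Agent.H240.Sp44.Main_m3
import Cfsg.Agent.H962.TC.Num_m3
import Cfsg.Agent.Lib.FinFast
import Cfsg.Agent.H140.TC.Fam_m3
import Cfsg.Agent.H126.PwO.Mats_m3
import Cfsg.Agent.H494.TC.Base
import Cfsg.Agent.H538.TC.SLThreeC_m3
import Cfsg.Agent.FastGrp
import Cfsg.Agent.Prune
set_option linter.all false

section
prune_inst 0x7ffcadf8e9b82ffedfff7e77a695cdfdf9b93fffa6dff94bffe069ff0bdf6b0249c563850fe810fe0ed6c01410e87b03ff7eeeffe26fd87ffffdbff45ffbffcfedf6bd08519688340fbc0fff03f0778e7f3fffffffffffffffffffffffffffbeffbfffffffff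

-- part: H910/TC/Sp43_mg
section
prune_inst 0x10000200000000000008004002000240000000000000000880000400000020000800000040000000200000100050000000000000040000004000000000000000000000000000000020000000080000000000000000000000000000000000000000000000
set_option linter.all false
open scoped Cfsg.Agent.FastGrp

-- part: H910/TC/SpTab
section
/-!
# S2464, the group `PSp_4(3)`: the table (helper910)

The normal forms `lo T * lv A * up S` of noncentral elements of `Sp_4(3)` are those of `H140/TC/Sp43.lean`; for each of the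
2106 triples the table gives one of 17 elements `u` of order five such that `u * g` is plus or minus an element of order five.
-/

set_option autoImplicit false
set_option maxRecDepth 20000
set_option Elab.async false

namespace Cfsg.Agent.H910.TC

/-- `4 x 4` matrices -/
structure M4 where
  (a b c d e f g h i j k l m n o p : ℕ)

/-- product modulo three -/
def mul4 (x y : M4) : M4 :=
  ⟨(x.a * y.a + x.b * y.e + x.c * y.i + x.d * y.m) % 3,
   (x.a * y.b + x.b * y.f + x.c * y.j + x.d * y.n) % 3,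
   (x.a * y.c + x.b * y.g + x.c * y.k + x.d * y.o) % 3,
   (x.a * y.d + x.b * y.h + x.c * y.l + x.d * y.p) % 3,
   (x.e * y.a + x.f * y.e + x.g * y.i + x.h * y.m) % 3,
   (x.e * y.b + x.f * y.f + x.g * y.j + x.h * y.n) % 3,
   (x.e * y.c + x.f * y.g + x.g * y.k + x.h * y.o) % 3,
   (x.e * y.d + x.f * y.h + x.g * y.l + x.h * y.p) % 3,
   (x.i * y.a + x.j * y.e + x.k * y.i + x.l * y.m) % 3,
   (x.i * y.b + x.j * y.f + x.k * y.j + x.l * y.n) % 3,
   (x.i * y.c + x.j * y.g + x.k * y.k + x.l * y.o) % 3,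
   (x.i * y.d + x.j * y.h + x.k * y.l + x.l * y.p) % 3,
   (x.m * y.a + x.n * y.e + x.o * y.i + x.p * y.m) % 3,
   (x.m * y.b + x.n * y.f + x.o * y.j + x.p * y.n) % 3,
   (x.m * y.c + x.n * y.g + x.o * y.k + x.p * y.o) % 3,
   (x.m * y.d + x.n * y.h + x.o * y.l + x.p * y.p) % 3⟩

/-- `1 + s x + y + s z + w = 0`, for `y = x^2`, `z = x^3`, `w = x^4` -/
def ok5 (s : ℕ) (x y z w : M4) : Bool :=
  Nat.beq ((1 + y.a + w.a + s * (x.a + z.a)) % 3) 0 &&
  Nat.beq ((y.b + w.b + s * (x.b + z.b)) % 3) 0 &&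
  Nat.beq ((y.c + w.c + s * (x.c + z.c)) % 3) 0 &&
  Nat.beq ((y.d + w.d + s * (x.d + z.d)) % 3) 0 &&
  Nat.beq ((y.e + w.e + s * (x.e + z.e)) % 3) 0 &&
  Nat.beq ((1 + y.f + w.f + s * (x.f + z.f)) % 3) 0 &&
  Nat.beq ((y.g + w.g + s * (x.g + z.g)) % 3) 0 &&
  Nat.beq ((y.h + w.h + s * (x.h + z.h)) % 3) 0 &&
  Nat.beq ((y.i + w.i + s * (x.i + z.i)) % 3) 0 &&
  Nat.beq ((y.j + w.j + s * (x.j + z.j)) % 3) 0 &&
  Nat.beq ((1 + y.k + w.k + s * (x.k + z.k)) % 3) 0 &&
  Nat.beq ((y.l + w.l + s * (x.l + z.l)) % 3) 0 &&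
  Nat.beq ((y.m + w.m + s * (x.m + z.m)) % 3) 0 &&
  Nat.beq ((y.n + w.n + s * (x.n + z.n)) % 3) 0 &&
  Nat.beq ((y.o + w.o + s * (x.o + z.o)) % 3) 0 &&
  Nat.beq ((1 + y.p + w.p + s * (x.p + z.p)) % 3) 0

/-- `1 + s x + x^2 + s x^3 + x^4 = 0` -/
def ok4 (s : ℕ) (x : M4) : Bool := ok5 s x (mul4 x x) (mul4 (mul4 x x) x) (mul4 (mul4 x x) (mul4 x x))

/-- the elements of order five -/
def tabU : ℕ → M4
  | 0 => ⟨1, 2, 0, 2, 2, 1, 1, 2, 1, 1, 0, 0, 2, 0, 0, 0⟩
  | 1 => ⟨2, 1, 1, 0, 0, 0, 1, 1, 2, 1, 0, 0, 0, 2, 0, 0⟩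
  | 2 => ⟨0, 2, 0, 1, 2, 2, 1, 1, 1, 2, 0, 0, 2, 0, 0, 0⟩
  | 3 => ⟨2, 0, 0, 1, 0, 2, 1, 0, 1, 0, 2, 2, 0, 2, 1, 2⟩
  | 4 => ⟨0, 2, 1, 2, 1, 2, 1, 1, 1, 2, 0, 0, 1, 1, 0, 0⟩
  | 5 => ⟨1, 2, 1, 0, 1, 0, 2, 1, 2, 0, 1, 1, 1, 1, 1, 0⟩
  | 6 => ⟨1, 1, 1, 1, 2, 0, 0, 2, 1, 1, 1, 2, 2, 0, 2, 0⟩
  | 7 => ⟨1, 0, 1, 0, 1, 1, 1, 0, 1, 0, 2, 2, 2, 2, 2, 1⟩
  | 8 => ⟨1, 2, 0, 2, 1, 0, 1, 1, 1, 1, 2, 2, 2, 1, 1, 2⟩
  | 9 => ⟨0, 2, 1, 0, 1, 1, 1, 2, 0, 2, 2, 2, 1, 1, 2, 2⟩
  | 10 => ⟨2, 1, 2, 1, 2, 2, 0, 0, 0, 1, 2, 1, 0, 2, 0, 2⟩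
  | 11 => ⟨0, 0, 0, 2, 2, 0, 0, 1, 1, 1, 2, 0, 1, 0, 2, 0⟩
  | 12 => ⟨0, 2, 0, 0, 0, 2, 2, 0, 2, 1, 0, 2, 1, 0, 0, 0⟩
  | 13 => ⟨2, 1, 0, 1, 1, 2, 1, 0, 2, 0, 2, 0, 1, 1, 1, 2⟩
  | 14 => ⟨2, 1, 0, 1, 0, 1, 0, 1, 1, 1, 2, 1, 1, 2, 1, 0⟩
  | 15 => ⟨1, 2, 1, 0, 2, 2, 2, 0, 2, 0, 1, 1, 1, 0, 2, 1⟩
  | _ => ⟨0, 1, 1, 0, 0, 2, 1, 0, 1, 2, 2, 2, 1, 1, 2, 1⟩

/-- the table: seven binary digits for each normal form -/
def tabN : ℕ :=
  0x1400306506871a00581180410312584010800104182010006386800210412080049306140170a248881220101180400b060488e060450708184020630200026068512001001a003881a001850e28009024438a0c08181043030418200010020001123818308440061a1880a0a00181041c39e0208480183438302240830e20484022c0031008385002000a0e08007003c008120c28b06181010c1c70802181040c0008b140020e061058a020c0020614388005c00702181020c20901000c681180438e1e0c001061820a1210f821600282280048014140080a18002344c381060448e062800108189040620002281820002103020e006800614994062450c02744820600082141c8900404308081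849506042000a546881a0028000085880a00900123c1930228388022818e040c8840c24000020800d1208786083c0130e204830a00181040471e0e2000a18081070228086081c18002184832c001851e200170e00d0f00240020418287062478106043880830301060021600282060410b000228287060058d0e54015023038206183800220487040430b040c001140c2081e100091a0c2821e0000006143080a40007022810228045081e10001084c38906003020604200121030216002801e1448b06343870220087000c0821c28c060e04502081848200042140660008120c2803024a830a005000e04409100858c02081a0221818402280000220103181088614340090e080100a7818134041892600a8a20041030c1c0860820100022010c0a001800e7469800006930c34005040c3022c283810404888082c001060c2000c2420b0c1018002482820c00380043c88a020c389020c009023008e120818e02300040c20208041c00f1a0c2970e001150a2c00d0a0080304106010a0808318248811c00084000008422301000224783001478906080161c041851c14180021410114407040a08001080008b06080131a001852214009160098500085931e0c08208042051400083000451d060058a080800118000821a0c0021a0048506102810c1c09a0010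0890a08212020808200101820218005004c790120c00000401060a400021604b8406086810608180022c1841c000011600084001040216005130008106061c08508041892200f822214481041008f082c00106000840a401831a0078a001418d1e300030a0020512141011c1c083042c00104000800800096163058002009850c141000c5c0830408203021400302143811414383021800108009021a080030600a070c0001806003851a54381043808908082051e000820004182000c593020c001180038604340060a008050e101811a10080140c0840a0c48b02000951210a0002086850034182046000900343830a2c003080410230185010a04200082c5010600001160008306107021a00a820014396060808c080410c004860a0214901061040208180010800087060800712001001a14580060801406181850214181143010624240010800001080011606041000a001832814680161808a0a18202020028a020c101080c10002180010818b891c2c00d0a00282005c0020a0048304309010e0c08a0a0c201040008600105800410180022c00104245860c0c0060a0020504083811c1000104105040a04e030c0008b0c0c18002003052008580120010d000c113142400308046091614c8100042020868001000c001080008c0c10003160098706145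810a1c08208183801a0c102020c20114106030218001060048d0a2c0020400018000c18d00143030e042850c10089100410004389870400189080009106547140a3c80800008141004105040420500241852218081061cb061210b071c00082001c7900400300000c28f06243050054807080438e0804112220821400040060004584060c6840018285006030a0e0410410083820800088080c08a0e0c504161808600207040e181050008a82001418b0014383002420502044950a24206043c90002103002e1019106200830024400121438700142050404205040400320043840614083000431124104120c084800008d870400389000080226085830e041850c2808e00044861850417000850604000890c083830a001891600191180408510482000a0820104181010a2848322101810c0048d001438d16000020020e8228001050628e0a080408c06202121c2c2080000082004440208201050018185000c30908047071238087001008204100820e650040600088080c30910184850000b80041440d000810b00041850e04184063878c0c045801610006041010f1c00086001c183301428b001c2050a0420d120008a0414104081408300042030c0c310001468d004029a00004150c0038614140850408205041c08e000458310101800c108810c004110c084881a0098a04000a00e1c0830a1c0040a1c50116144811c085861008001040018606144833a00385002c4070a0058828080820810082062420406300910000086083c58e08241050000582041c406060470a06100801410081121068910181040400086044469a06006850a000091a14287000080c0a0420804041040a343830004183220020e1234c96100008b0008287040010706202030a04083004808a0814401081408e00082130e2011700145830034280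

/-- the normal form -/
def gL (t a b c d e f : ℕ) : M4 :=
  ⟨0, 2, 2 * e, 2 * f,
   1, t, d + t * e, e + t * f,
   b, 2 * a + b * t, a * (2 * e) + b * (d + t * e) + t, a * (2 * f) + b * (e + t * f) + 2,
   c, 2 * b + c * t, b * (2 * e) + c * (d + t * e) + 1, b * (2 * f) + c * (e + t * f)⟩

/-- the entry of the table -/
def ent (t a b c d e f : ℕ) : ℕ :=
  tabN / 128 ^ ((((((t * 3 + a) * 3 + b) * 3 + c) * 3 + d) * 3 + e) * 3 + f) % 128

/-- the check -/
def chk (t a b c d e f : ℕ) : Bool :=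
  ok4 (1 + ent t a b c d e f % 2) (mul4 (tabU (ent t a b c d e f / 2)) (gL t a b c d e f))

private noncomputable def _root_.Cfsg.Agent.LsF.fef6ddb_0 : {f // @Cfsg.Agent.H910.TC.ok5 = f} := ⟨_, by first | (delta Cfsg.Agent.H910.TC.ok5; rewrite [Cfsg.Agent.LsF.nadd_pat, Cfsg.Agent.LsF.nmul_pat, Cfsg.Agent.LsF.nmod_pat, Cfsg.Agent.LsF.and_eq]; exact rfl) | exact rfl⟩
private noncomputable def _root_.Cfsg.Agent.LsF.fef6ddb_1 : {f // @Cfsg.Agent.H910.TC.mul4 = f} := ⟨_, by first | (delta Cfsg.Agent.H910.TC.mul4; rewrite [Cfsg.Agent.LsF.nadd_pat, Cfsg.Agent.LsF.nmul_pat, Cfsg.Agent.LsF.nmod_pat]; exact rfl) | exact rfl⟩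
private noncomputable def _root_.Cfsg.Agent.LsF.fef6ddb_2 : {f // @Cfsg.Agent.H910.TC.ok4 = f} := ⟨_, by first | (delta Cfsg.Agent.H910.TC.ok4; rewrite [Cfsg.Agent.LsF.fef6ddb_0.2, Cfsg.Agent.LsF.fef6ddb_1.2]; exact rfl) | exact rfl⟩
private noncomputable def _root_.Cfsg.Agent.LsF.fef6ddb_3 : {f // @Cfsg.Agent.H910.TC.ent = f} := ⟨_, by first | (delta Cfsg.Agent.H910.TC.ent; rewrite [Cfsg.Agent.LsF.nadd_pat, Cfsg.Agent.LsF.nmul_pat, Cfsg.Agent.LsF.ndiv_pat, Cfsg.Agent.LsF.nmod_pat, Cfsg.Agent.LsF.npow_pat]; exact rfl) | exact rfl⟩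
private noncomputable def _root_.Cfsg.Agent.LsF.fef6ddb_4 : {f // @Cfsg.Agent.H910.TC.tabU = f} := ⟨_, by first | (delta Cfsg.Agent.H910.TC.tabU; (try delta Cfsg.Agent.H910.TC.tabU.match_1); (try rewrite [Cfsg.Agent.LsF.instDecEq_eq, Cfsg.Agent.LsF.dite_eq]); exact rfl) | exact rfl⟩
private noncomputable def _root_.Cfsg.Agent.LsF.fef6ddb_5 : {f // @Cfsg.Agent.H910.TC.gL = f} := ⟨_, by first | (delta Cfsg.Agent.H910.TC.gL; rewrite [Cfsg.Agent.LsF.nadd_pat, Cfsg.Agent.LsF.nmul_pat]; exact rfl) | exact rfl⟩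
private noncomputable def _root_.Cfsg.Agent.LsF.fef6ddb_6 : {f // @Cfsg.Agent.H910.TC.chk = f} := ⟨_, by first | (delta Cfsg.Agent.H910.TC.chk; rewrite [Cfsg.Agent.LsF.fef6ddb_2.2, Cfsg.Agent.LsF.fef6ddb_3.2, Cfsg.Agent.LsF.fef6ddb_1.2, Cfsg.Agent.LsF.fef6ddb_4.2, Cfsg.Agent.LsF.fef6ddb_5.2, Cfsg.Agent.LsF.nadd_pat, Cfsg.Agent.LsF.ndiv_pat, Cfsg.Agent.LsF.nmod_pat]; exact rfl) | exact rfl⟩
theorem chk_all : ∀ t a b c d e f : Fin 3, ¬ (d.val = 0 ∧ e.val = 0 ∧ f.val = 0) →
    chk t.val a.val b.val c.val d.val e.val f.val = true := by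
  (refine of_decide_eq_true ?_; (try (rewrite [Cfsg.Agent.LsF.fef6ddb_6.2, Cfsg.Agent.LsF.instDecEq_eq, Cfsg.Agent.LsF.dAnd_eq, Cfsg.Agent.LsF.dNot_eq, Cfsg.Agent.LsF.dBoolEq_eq, Cfsg.Agent.LsF.dForallFin_eq, Cfsg.Agent.LsF.dAllP_eq, Cfsg.Agent.LsF.decide_eq])); decide +kernel)

theorem tab_all : ∀ i < 17, ok4 1 (tabU i) = true := by
  decide +kernel

end Cfsg.Agent.H910.TC
end

-- part: H910/TC/Sp43
section
/-!
# S2464, the group `PSp_4(3)`: every nonidentity element is a product of two elements of order five (helper910)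
-/

set_option autoImplicit false
set_option maxRecDepth 20000

namespace Cfsg.Agent.H910.TC

open Matrix Cfsg.Agent.H140.TC.Sp Cfsg.Agent.H140.TC Cfsg.Agent.H649.PwSp Cfsg.Agent.H140.OreO

/-- the matrix -/
def toM (x : M4) : Matrix (Fin 2 ⊕ Fin 2) (Fin 2 ⊕ Fin 2) (ZMod 3) :=
  fromBlocks !![(x.a : ZMod 3), x.b; x.e, x.f] !![(x.c : ZMod 3), x.d; x.g, x.h]
    !![(x.i : ZMod 3), x.j; x.m, x.n] !![(x.k : ZMod 3), x.l; x.o, x.p]

theorem cast_mod (n : ℕ) : ((n % 3 : ℕ) : ZMod 3) = n := ZMod.natCast_mod n 3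

theorem toM_mul (x y : M4) : toM (mul4 x y) = toM x * toM y := by
  rw [toM, toM, toM, fromBlocks_multiply, fromBlocks_inj]
  refine ⟨?_, ?_, ?_, ?_⟩ <;>
  · ext i j
    fin_cases i <;> fin_cases j <;>
    · simp only [mul4, cast_mod, Matrix.add_apply, Matrix.mul_apply, Fin.sum_univ_two, Matrix.of_apply,
        Matrix.cons_val', Matrix.cons_val_zero, Matrix.cons_val_one, Matrix.cons_val_fin_one, Fin.zero_eta, Fin.mk_one]
      push_cast
      ring

theorem beq_cast {n : ℕ} (h : Nat.beq (n % 3) 0 = true) : ((n : ℕ) : ZMod 3) = 0 := by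
  rw [← cast_mod, Nat.eq_of_beq_eq_true h, Nat.cast_zero]

/-- the meaning of the check -/
theorem ok5_spec {s : ℕ} {x y z w : M4} (h : ok5 s x y z w = true) :
    1 + toM y + toM w + (s : ZMod 3) • (toM x + toM z) = 0 := by
  simp only [ok5, Bool.and_eq_true] at h
  obtain ⟨⟨⟨⟨⟨⟨⟨⟨⟨⟨⟨⟨⟨⟨⟨h1, h2⟩, h3⟩, h4⟩, h5⟩, h6⟩, h7⟩, h8⟩, h9⟩, h10⟩, h11⟩, h12⟩, h13⟩, h14⟩, h15⟩, h16⟩ := h
  have e1 := beq_cast h1
  have e2 := beq_cast h2
  have e3 := beq_cast h3
  have e4 := beq_cast h4
  have e5 := beq_cast h5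
  have e6 := beq_cast h6
  have e7 := beq_cast h7
  have e8 := beq_cast h8
  have e9 := beq_cast h9
  have e10 := beq_cast h10
  have e11 := beq_cast h11
  have e12 := beq_cast h12
  have e13 := beq_cast h13
  have e14 := beq_cast h14
  have e15 := beq_cast h15
  have e16 := beq_cast h16
  push_cast at e1 e2 e3 e4 e5 e6 e7 e8 e9 e10 e11 e12 e13 e14 e15 e16
  rw [toM, toM, toM, toM, ← fromBlocks_one, ← fromBlocks_zero]
  simp only [fromBlocks_add, fromBlocks_smul, fromBlocks_inj]
  refine ⟨?_, ?_, ?_, ?_⟩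
  · ext i j
    fin_cases i <;> fin_cases j
    · simpa only [_root_.Matrix.of_add_of, _root_.Matrix.add_cons, _root_.Matrix.head_cons, _root_.Matrix.tail_cons, _root_.Matrix.empty_add_empty, _root_.Matrix.smul_of, _root_.Matrix.smul_cons, _root_.smul_eq_mul, _root_.Matrix.smul_empty, _root_.Fin.zero_eta, _root_.Fin.isValue, _root_.Matrix.add_apply, _root_.Matrix.one_apply_eq, _root_.Matrix.of_apply, _root_.Matrix.cons_val', _root_.Matrix.cons_val_zero, _root_.Matrix.cons_val_fin_one, _root_.Matrix.zero_apply] using e1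
    · simpa only [_root_.Matrix.of_add_of, _root_.Matrix.add_cons, _root_.Matrix.head_cons, _root_.Matrix.tail_cons, _root_.Matrix.empty_add_empty, _root_.Matrix.smul_of, _root_.Matrix.smul_cons, _root_.smul_eq_mul, _root_.Matrix.smul_empty, _root_.Fin.zero_eta, _root_.Fin.isValue, _root_.Fin.mk_one, _root_.Matrix.add_apply, _root_.Nat.reduceAdd, _root_.ne_eq, _root_.zero_ne_one, _root_.not_false_eq_true, _root_.Matrix.one_apply_ne, _root_.Matrix.of_apply, _root_.Matrix.cons_val', _root_.Matrix.cons_val_one, _root_.Matrix.cons_val_fin_one, _root_.Matrix.cons_val_zero, _root_.zero_add, _root_.Matrix.zero_apply] using e2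
    · simpa only [_root_.Matrix.of_add_of, _root_.Matrix.add_cons, _root_.Matrix.head_cons, _root_.Matrix.tail_cons, _root_.Matrix.empty_add_empty, _root_.Matrix.smul_of, _root_.Matrix.smul_cons, _root_.smul_eq_mul, _root_.Matrix.smul_empty, _root_.Fin.mk_one, _root_.Fin.isValue, _root_.Fin.zero_eta, _root_.Matrix.add_apply, _root_.Nat.reduceAdd, _root_.ne_eq, _root_.one_ne_zero, _root_.not_false_eq_true, _root_.Matrix.one_apply_ne, _root_.Matrix.of_apply, _root_.Matrix.cons_val', _root_.Matrix.cons_val_zero, _root_.Matrix.cons_val_fin_one, _root_.Matrix.cons_val_one, _root_.zero_add, _root_.Matrix.zero_apply] using e5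
    · simpa only [_root_.Matrix.of_add_of, _root_.Matrix.add_cons, _root_.Matrix.head_cons, _root_.Matrix.tail_cons, _root_.Matrix.empty_add_empty, _root_.Matrix.smul_of, _root_.Matrix.smul_cons, _root_.smul_eq_mul, _root_.Matrix.smul_empty, _root_.Fin.mk_one, _root_.Fin.isValue, _root_.Matrix.add_apply, _root_.Matrix.one_apply_eq, _root_.Matrix.of_apply, _root_.Matrix.cons_val', _root_.Matrix.cons_val_one, _root_.Matrix.cons_val_fin_one, _root_.Matrix.zero_apply] using e6
  · ext i j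
    fin_cases i <;> fin_cases j
    · simpa only [_root_.zero_add, _root_.Matrix.of_add_of, _root_.Matrix.add_cons, _root_.Matrix.head_cons, _root_.Matrix.tail_cons, _root_.Matrix.empty_add_empty, _root_.Matrix.smul_of, _root_.Matrix.smul_cons, _root_.smul_eq_mul, _root_.Matrix.smul_empty, _root_.Fin.zero_eta, _root_.Fin.isValue, _root_.Matrix.add_apply, _root_.Matrix.of_apply, _root_.Matrix.cons_val', _root_.Matrix.cons_val_zero, _root_.Matrix.cons_val_fin_one, _root_.Matrix.zero_apply] using e3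
    · simpa only [_root_.zero_add, _root_.Matrix.of_add_of, _root_.Matrix.add_cons, _root_.Matrix.head_cons, _root_.Matrix.tail_cons, _root_.Matrix.empty_add_empty, _root_.Matrix.smul_of, _root_.Matrix.smul_cons, _root_.smul_eq_mul, _root_.Matrix.smul_empty, _root_.Fin.zero_eta, _root_.Fin.isValue, _root_.Fin.mk_one, _root_.Matrix.add_apply, _root_.Matrix.of_apply, _root_.Matrix.cons_val', _root_.Matrix.cons_val_one, _root_.Matrix.cons_val_fin_one, _root_.Matrix.cons_val_zero, _root_.Matrix.zero_apply] using e4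
    · simpa only [_root_.zero_add, _root_.Matrix.of_add_of, _root_.Matrix.add_cons, _root_.Matrix.head_cons, _root_.Matrix.tail_cons, _root_.Matrix.empty_add_empty, _root_.Matrix.smul_of, _root_.Matrix.smul_cons, _root_.smul_eq_mul, _root_.Matrix.smul_empty, _root_.Fin.mk_one, _root_.Fin.isValue, _root_.Fin.zero_eta, _root_.Matrix.add_apply, _root_.Matrix.of_apply, _root_.Matrix.cons_val', _root_.Matrix.cons_val_zero, _root_.Matrix.cons_val_fin_one, _root_.Matrix.cons_val_one, _root_.Matrix.zero_apply] using e7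
    · simpa only [_root_.zero_add, _root_.Matrix.of_add_of, _root_.Matrix.add_cons, _root_.Matrix.head_cons, _root_.Matrix.tail_cons, _root_.Matrix.empty_add_empty, _root_.Matrix.smul_of, _root_.Matrix.smul_cons, _root_.smul_eq_mul, _root_.Matrix.smul_empty, _root_.Fin.mk_one, _root_.Fin.isValue, _root_.Matrix.add_apply, _root_.Matrix.of_apply, _root_.Matrix.cons_val', _root_.Matrix.cons_val_one, _root_.Matrix.cons_val_fin_one, _root_.Matrix.zero_apply] using e8
  · ext i j
    fin_cases i <;> fin_cases j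
    · simpa only [_root_.zero_add, _root_.Matrix.of_add_of, _root_.Matrix.add_cons, _root_.Matrix.head_cons, _root_.Matrix.tail_cons, _root_.Matrix.empty_add_empty, _root_.Matrix.smul_of, _root_.Matrix.smul_cons, _root_.smul_eq_mul, _root_.Matrix.smul_empty, _root_.Fin.zero_eta, _root_.Fin.isValue, _root_.Matrix.add_apply, _root_.Matrix.of_apply, _root_.Matrix.cons_val', _root_.Matrix.cons_val_zero, _root_.Matrix.cons_val_fin_one, _root_.Matrix.zero_apply] using e9
    · simpa only [_root_.zero_add, _root_.Matrix.of_add_of, _root_.Matrix.add_cons, _root_.Matrix.head_cons, _root_.Matrix.tail_cons, _root_.Matrix.empty_add_empty, _root_.Matrix.smul_of, _root_.Matrix.smul_cons, _root_.smul_eq_mul, _root_.Matrix.smul_empty, _root_.Fin.zero_eta, _root_.Fin.isValue, _root_.Fin.mk_one, _root_.Matrix.add_apply, _root_.Matrix.of_apply, _root_.Matrix.cons_val', _root_.Matrix.cons_val_one, _root_.Matrix.cons_val_fin_one, _root_.Matrix.cons_val_zero, _root_.Matrix.zero_apply]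 using e10
    · simpa only [_root_.zero_add, _root_.Matrix.of_add_of, _root_.Matrix.add_cons, _root_.Matrix.head_cons, _root_.Matrix.tail_cons, _root_.Matrix.empty_add_empty, _root_.Matrix.smul_of, _root_.Matrix.smul_cons, _root_.smul_eq_mul, _root_.Matrix.smul_empty, _root_.Fin.mk_one, _root_.Fin.isValue, _root_.Fin.zero_eta, _root_.Matrix.add_apply, _root_.Matrix.of_apply, _root_.Matrix.cons_val', _root_.Matrix.cons_val_zero, _root_.Matrix.cons_val_fin_one, _root_.Matrix.cons_val_one, _root_.Matrix.zero_apply] using e13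
    · simpa only [_root_.zero_add, _root_.Matrix.of_add_of, _root_.Matrix.add_cons, _root_.Matrix.head_cons, _root_.Matrix.tail_cons, _root_.Matrix.empty_add_empty, _root_.Matrix.smul_of, _root_.Matrix.smul_cons, _root_.smul_eq_mul, _root_.Matrix.smul_empty, _root_.Fin.mk_one, _root_.Fin.isValue, _root_.Matrix.add_apply, _root_.Matrix.of_apply, _root_.Matrix.cons_val', _root_.Matrix.cons_val_one, _root_.Matrix.cons_val_fin_one, _root_.Matrix.zero_apply] using e14
  · ext i j
    fin_cases i <;> fin_cases j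
    · simpa only [_root_.Matrix.of_add_of, _root_.Matrix.add_cons, _root_.Matrix.head_cons, _root_.Matrix.tail_cons, _root_.Matrix.empty_add_empty, _root_.Matrix.smul_of, _root_.Matrix.smul_cons, _root_.smul_eq_mul, _root_.Matrix.smul_empty, _root_.Fin.zero_eta, _root_.Fin.isValue, _root_.Matrix.add_apply, _root_.Matrix.one_apply_eq, _root_.Matrix.of_apply, _root_.Matrix.cons_val', _root_.Matrix.cons_val_zero, _root_.Matrix.cons_val_fin_one, _root_.Matrix.zero_apply] using e11
    · simpa using e12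
    · simpa only [_root_.Matrix.of_add_of, _root_.Matrix.add_cons, _root_.Matrix.head_cons, _root_.Matrix.tail_cons, _root_.Matrix.empty_add_empty, _root_.Matrix.smul_of, _root_.Matrix.smul_cons, _root_.smul_eq_mul, _root_.Matrix.smul_empty, _root_.Fin.mk_one, _root_.Fin.isValue, _root_.Fin.zero_eta, _root_.Matrix.add_apply, _root_.Nat.reduceAdd, _root_.ne_eq, _root_.one_ne_zero, _root_.not_false_eq_true, _root_.Matrix.one_apply_ne, _root_.Matrix.of_apply, _root_.Matrix.cons_val', _root_.Matrix.cons_val_zero, _root_.Matrix.cons_val_fin_one, _root_.Matrix.cons_val_one, _root_.zero_add, _root_.Matrix.zero_apply] using e15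
    · simpa only [_root_.Matrix.of_add_of, _root_.Matrix.add_cons, _root_.Matrix.head_cons, _root_.Matrix.tail_cons, _root_.Matrix.empty_add_empty, _root_.Matrix.smul_of, _root_.Matrix.smul_cons, _root_.smul_eq_mul, _root_.Matrix.smul_empty, _root_.Fin.mk_one, _root_.Fin.isValue, _root_.Matrix.add_apply, _root_.Matrix.one_apply_eq, _root_.Matrix.of_apply, _root_.Matrix.cons_val', _root_.Matrix.cons_val_one, _root_.Matrix.cons_val_fin_one, _root_.Matrix.zero_apply] using e16

theorem ok4_spec {s : ℕ} {x : M4} (h : ok4 s x = true) :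
    1 + toM x * toM x + toM x * toM x * (toM x * toM x) + (s : ZMod 3) • (toM x + toM x * toM x * toM x) = 0 := by
  have h1 := ok5_spec h
  simp only [toM_mul] at h1
  exact h1

/-- the central element `-1` -/
def zc : G 2 (ZMod 3) := ⟨-1, by
  rw [SymplecticGroup.mem_iff, transpose_neg, transpose_one]
  simp⟩

theorem zc_center : zc ∈ Subgroup.center (G 2 (ZMod 3)) := by
  rw [Subgroup.mem_center_iff]
  intro g
  apply Subtype.ext
  change g.1 * (-1) = (-1) * g.1
  simp

theorem five {x : G 2 (ZMod 3)} (h : 1 + x.1 * x.1 + x.1 * x.1 * (x.1 * x.1) + (x.1 + x.1 * x.1 * x.1) = 0) :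
    orderOf x = 5 := by
  have : Fact (Nat.Prime 5) := ⟨by norm_num⟩
  have h5 : x ^ 5 = 1 := by
    apply Subtype.ext
    have h1 : (x ^ 5).1 = x.1 * x.1 * (x.1 * x.1) * x.1 := by
      have : x ^ 5 = x * x * (x * x) * x := by simp only [pow_succ, pow_zero, one_mul, mul_assoc]
      rw [this]
      rfl
    rw [h1]
    have h2 : x.1 * x.1 * (x.1 * x.1) * x.1 - 1 = (1 + x.1 * x.1 + x.1 * x.1 * (x.1 * x.1) + (x.1 + x.1 * x.1 * x.1)) * (x.1 - 1) := by
      noncomm_ring
    rw [h, Matrix.zero_mul, sub_eq_zero] at h2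
    exact h2
  refine orderOf_eq_prime h5 ?_
  rintro rfl
  have h1 := congrFun (congrFun h (Sum.inl 0)) (Sum.inl 0)
  revert h1
  change (1 + 1 * 1 + 1 * 1 * (1 * 1) + (1 + 1 * 1 * 1) : Matrix (Fin 2 ⊕ Fin 2) (Fin 2 ⊕ Fin 2) (ZMod 3)) (Sum.inl 0) (Sum.inl 0) = 0 → False
  simp only [Matrix.mul_one, Matrix.add_apply, Matrix.one_apply_eq]
  decide

theorem five_neg {x : G 2 (ZMod 3)} (h : 1 + x.1 * x.1 + x.1 * x.1 * (x.1 * x.1) + (2 : ZMod 3) • (x.1 + x.1 * x.1 * x.1) = 0) :
    orderOf (zc * x) = 5 := by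
  apply five
  have e : (zc * x).1 = -x.1 := by
    change (-1) * x.1 = -x.1
    simp
  have h2 : (2 : ZMod 3) = -1 := by decide
  rw [h2] at h
  rw [e, ← h]
  simp only [neg_mul_neg, Matrix.mul_neg, neg_smul, one_smul]
  abel

/-- the elements of the table -/
theorem tab_mem : ∀ i < 17, ∃ u : G 2 (ZMod 3), u.1 = toM (tabU i) ∧ orderOf u = 5 := by
  have hm : ∀ i < 17, toM (tabU i) ∈ Matrix.symplecticGroup (Fin 2) (ZMod 3) := by
    intro i hi
    rw [toM, mem_iff]
    revert i
    (refine of_decide_eq_true ?_; (try (rewrite [Cfsg.Agent.LsF.mmulF_pat, Cfsg.Agent.LsF.msub_pat, Cfsg.Agent.LsF.fef6ddb_4.2, Cfsg.Agent.LsF.mof_pat, Cfsg.Agent.LsF.zadd_pat, Cfsg.Agent.LsF.zmul_pat, Cfsg.Agent.LsF.zsub_pat, Cfsg.Agent.LsF.zcast_pat, Cfsg.Agent.LsF.vecCons_eq, Cfsg.Agent.LsF.zdecEq_eq, Cfsg.Agent.LsF.finFintype_eq, Cfsg.Agent.LsF.dMat_eq, Cfsg.Agent.LsF.transpose_eq, Cfsg.Agent.LsF.instMOne_eq, Cfsg.Agent.LsF.zACM_pat, Cfsg.Agent.LsF.dAnd_eq, Cfsg.Agent.LsF.dFinEq_eq,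 Cfsg.Agent.LsF.dBallLT_eq, Cfsg.Agent.LsF.decide_eq])); decide +kernel)
  intro i hi
  refine ⟨⟨_, hm i hi⟩, rfl, five ?_⟩
  have h1 := ok4_spec (tab_all i hi)
  rw [Nat.cast_one, one_smul] at h1
  exact h1

/-- the normal form -/
theorem gL_eq (t a b c d e f : ZMod 3) {K : GL (Fin 2) (ZMod 3)} (hK : (K : Matrix (Fin 2) (Fin 2) (ZMod 3)) = cA t)
    (hT : (cS a b c)ᵀ = cS a b c) (hS : (cS d e f)ᵀ = cS d e f) :
    toM (gL t.val a.val b.val c.val d.val e.val f.val) = (lo (cS a b c) hT * lv K * up (cS d e f) hS).1 := by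
  have h2 : (2 : ZMod 3) = -1 := by decide
  have hi : ((K⁻¹ : GL (Fin 2) (ZMod 3)) : Matrix (Fin 2) (Fin 2) (ZMod 3)) = !![t, 1; -1, 0] := by
    have h3 : (K : Matrix (Fin 2) (Fin 2) (ZMod 3)) * !![t, 1; -1, 0] = 1 := by
      rw [hK, cA]
      ext i j
      (revert i j; simp only [Matrix.mul_apply, Fin.sum_univ_two, _root_.Fin.forall_fin_succ, _root_.Matrix.of_apply, _root_.Matrix.cons_val', _root_.Matrix.cons_val_fin_one, Fin.isValue, _root_.Matrix.cons_val_zero, _root_.Matrix.cons_val_one, _root_.mul_neg, _root_.mul_one, _root_.Matrix.cons_val_succ, _root_.MulZeroClass.mul_zero, _root_.add_zero, _root_.IsEmpty.forall_iff, _root_.and_true, _root_.MulZeroClass.zero_mul, _root_.neg_neg, _root_.zero_add, _root_.Matrix.one_apply_eq, Nat.reduceAdd, _root_.Fin.succ_zero_eq_one, _root_.ne_eq, _root_.zero_ne_one, _root_.not_false_eq_true, _root_.Matrix.one_apply_ne, _root_.and_self, _root_.one_mul, _root_.add_neg_cancel, _root_.Fin.succ_ne_zero, _root_.true_and])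
    have h4 : ((K⁻¹ : GL (Fin 2) (ZMod 3)) : Matrix (Fin 2) (Fin 2) (ZMod 3)) * (K : Matrix (Fin 2) (Fin 2) (ZMod 3)) = 1 := K.inv_mul
    calc ((K⁻¹ : GL (Fin 2) (ZMod 3)) : Matrix (Fin 2) (Fin 2) (ZMod 3)) =
        ((K⁻¹ : GL (Fin 2) (ZMod 3)) : Matrix (Fin 2) (Fin 2) (ZMod 3)) * ((K : Matrix (Fin 2) (Fin 2) (ZMod 3)) * !![t, 1; -1, 0]) := by
          rw [h3, Matrix.mul_one]
      _ = _ := by rw [← Matrix.mul_assoc, h4, Matrix.one_mul]
  change _ = fromBlocks 1 0 (cS a b c) 1 * fromBlocks (K : Matrix (Fin 2) (Fin 2) (ZMod 3)) 0 0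
        ((K⁻¹ : GL (Fin 2) (ZMod 3)) : Matrix (Fin 2) (Fin 2) (ZMod 3))ᵀ * fromBlocks 1 (cS d e f) 0 1
  rw [fromBlocks_multiply, fromBlocks_multiply, toM, fromBlocks_inj, hi, hK]
  refine ⟨?_, ?_, ?_, ?_⟩ <;>
  · ext i j
    fin_cases i <;> fin_cases j <;>
    · simp only [gL, cA, cS, h2, _root_.Nat.cast_zero, _root_.Nat.cast_ofNat, _root_.Nat.cast_one, _root_.ZMod.natCast_val, _root_.ZMod.cast_id', _root_.id_eq, _root_.Fin.zero_eta, _root_.Fin.isValue, _root_.Matrix.of_apply, _root_.Matrix.cons_val', _root_.Matrix.cons_val_zero, _root_.Matrix.cons_val_fin_one, _root_.one_mul, _root_.MulZeroClass.mul_zero, _root_.add_zero, _root_.mul_one, _root_.MulZeroClass.zero_mul, _root_.Matrix.add_apply, _root_.Matrix.zero_apply, _root_.Fin.mk_one, _root_.Matrix.cons_val_one, _root_.Nat.cast_mul, _root_.neg_mul, _root_.Nat.cast_add, _root_.Matrix.cons_mul, _root_.Nat.succ_eq_add_one, _root_.Nat.reduceAdd, _root_.Matrix.vecMul_cons, _root_.Matrix.head_cons, _root_.zero_smul,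 _root_.Matrix.tail_cons, _root_.neg_smul, _root_.one_smul, _root_.Matrix.neg_cons, _root_.Matrix.neg_empty, _root_.Matrix.empty_vecMul, _root_.zero_add, _root_.Matrix.smul_cons, _root_.smul_eq_mul, _root_.Matrix.smul_empty, _root_.Matrix.add_cons, _root_.Matrix.empty_add_empty, _root_.Matrix.empty_mul, _root_.Equiv.symm_apply_apply, _root_.mul_neg, _root_.Matrix.transpose_apply, _root_.add_left_inj]
      try ring

seal _root_.Finset.sum _root_.dotProduct in
/-- the normal forms -/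
theorem fac_normal (t : ZMod 3) {A : GL (Fin 2) (ZMod 3)} (hA : (A : Matrix (Fin 2) (Fin 2) (ZMod 3)) = cA t)
    {S : Matrix (Fin 2) (Fin 2) (ZMod 3)} (hS : Sᵀ = S) (hS0 : S ≠ 0) {l : G 2 (ZMod 3)} (hl : l ∈ Lo 2 (ZMod 3)) :
    ∃ u v z : G 2 (ZMod 3), orderOf u = 5 ∧ orderOf v = 5 ∧ z ∈ Subgroup.center (G 2 (ZMod 3)) ∧
      l * lv A * up S hS = z * (u * v) := by
  obtain ⟨T, hT, rfl⟩ := hl
  obtain ⟨a, b, c, rfl⟩ := exists_cS hT
  obtain ⟨d, e, f, rfl⟩ := exists_cS hS
  have hne : ¬ (d.val = 0 ∧ e.val = 0 ∧ f.val = 0) := by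
    rintro ⟨h1, h2, h3⟩
    rw [ZMod.val_eq_zero] at h1 h2 h3
    subst h1 h2 h3
    apply hS0
    ext i j
    fin_cases i <;> fin_cases j <;> rfl
  have hg := gL_eq t a b c d e f hA hT hS
  have hchk : chk t.val a.val b.val c.val d.val e.val f.val = true :=
    chk_all ⟨t.val, ZMod.val_lt t⟩ ⟨a.val, ZMod.val_lt a⟩ ⟨b.val, ZMod.val_lt b⟩ ⟨c.val, ZMod.val_lt c⟩
      ⟨d.val, ZMod.val_lt d⟩ ⟨e.val, ZMod.val_lt e⟩ ⟨f.val, ZMod.val_lt f⟩ hne
  obtain ⟨g, hgd⟩ : ∃ g, g = lo (cS a b c) hT * lv A * up (cS d e f) hS := ⟨_, rfl⟩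
  rw [← hgd] at hg
  rw [← hgd, chk] at *
  generalize ent t.val a.val b.val c.val d.val e.val f.val = n at hchk
  obtain ⟨u, hu, hu5⟩ : ∃ u : G 2 (ZMod 3), u.1 = toM (tabU (n / 2)) ∧ orderOf u = 5 := by
    rcases Nat.lt_or_ge (n / 2) 17 with h | h
    · exact tab_mem _ h
    · obtain ⟨u, h1, h2⟩ := tab_mem 16 (by norm_num)
      refine ⟨u, ?_, h2⟩
      rw [h1]
      congr 1
      obtain ⟨k, hk⟩ := Nat.exists_eq_add_of_le h
      rw [hk, Nat.add_comm]
      rfl
  have hw : toM (mul4 (tabU (n / 2)) (gL t.val a.val b.val c.val d.val e.val f.val)) = (u * g).1 := by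
    rw [toM_mul, hg, ← hu]
    rfl
  have h1 := ok4_spec hchk
  rw [hw] at h1
  rcases Nat.mod_two_eq_zero_or_one n with h2 | h2
  · rw [h2, Nat.add_zero, Nat.cast_one, one_smul] at h1
    refine ⟨u⁻¹, u * g, 1, by rw [orderOf_inv, hu5], five h1, one_mem _, by group⟩
  · rw [h2] at h1
    refine ⟨u⁻¹, zc * (u * g), zc, by rw [orderOf_inv, hu5], five_neg (by exact_mod_cast h1), zc_center, ?_⟩
    have h3 : zc * zc = 1 := by
      apply Subtype.ext
      change (-1 : Matrix (Fin 2 ⊕ Fin 2) (Fin 2 ⊕ Fin 2) (ZMod 3)) * (-1) = 1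
      simp
    have h4 := Subgroup.mem_center_iff.1 zc_center
    have h5 : u⁻¹ * (zc * (u * g)) = zc * g := by
      rw [← mul_assoc, h4, mul_assoc, inv_mul_cancel_left]
    rw [h5, ← mul_assoc, h3, one_mul]

/-- the elements of order five are conjugate -/
theorem conj_five {x y : G 2 (ZMod 3)} (hx : orderOf x = 5) (hy : orderOf y = 5) {c : G 2 (ZMod 3)}
    (hc : c * x * c⁻¹ = x ^ 2) : ∃ u : G 2 (ZMod 3), y = u * x * u⁻¹ := by
  have : Fact (Nat.Prime 5) := ⟨by norm_num⟩
  have hcard : Nat.card (G 2 (ZMod 3)) = 51840 := by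
    rw [S0245.result (F := ZMod 3) (q := 3) (ZMod.card 3) 2]
    decide
  have hf : (Nat.card (G 2 (ZMod 3))).factorization 5 = 1 := by
    rw [hcard]
    have h1 : 51840 = 5 ^ 1 * 10368 := by norm_num
    rw [h1, Nat.factorization_mul (by norm_num) (by norm_num), Finsupp.add_apply,
      Nat.Prime.factorization_pow (by norm_num), Finsupp.single_eq_same,
      Nat.factorization_eq_zero_of_not_dvd (by norm_num)]
  let P : Sylow 5 (G 2 (ZMod 3)) := Sylow.ofCard (Subgroup.zpowers x) (by rw [Nat.card_zpowers, hx, hf, pow_one])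
  let Q : Sylow 5 (G 2 (ZMod 3)) := Sylow.ofCard (Subgroup.zpowers y) (by rw [Nat.card_zpowers, hy, hf, pow_one])
  obtain ⟨g, hg⟩ := MulAction.exists_smul_eq (G 2 (ZMod 3)) P Q
  have hyQ : y ∈ (Q : Subgroup (G 2 (ZMod 3))) := Subgroup.mem_zpowers y
  rw [← hg, Sylow.smul_def] at hyQ
  obtain ⟨w, hw, hwy⟩ := hyQ
  obtain ⟨k, hk⟩ : ∃ k : ℕ, x ^ k = w := by
    have h1 : w ∈ Subgroup.zpowers x := hw
    rw [← mem_powers_iff_mem_zpowers] at h1
    exact h1
  have hwy' : y = g * w * g⁻¹ := hwy.symm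
  have hw1 : w ≠ 1 := by
    rintro rfl
    rw [mul_one, mul_inv_cancel] at hwy'
    rw [hwy', orderOf_one] at hy
    omega
  have hx5 : x ^ 5 = 1 := by rw [← hx, pow_orderOf_eq_one]
  have hk5 : w = x ^ (k % 5) := by rw [← hk, ← hx, pow_mod_orderOf]
  -- the powers
  have hp : ∀ m : ℕ, c ^ m * x * (c ^ m)⁻¹ = x ^ 2 ^ m := by
    intro m
    induction m with
    | zero => simp
    | succ m ih =>
      have h1 : c ^ (m + 1) * x * (c ^ (m + 1))⁻¹ = c * (c ^ m * x * (c ^ m)⁻¹) * c⁻¹ := by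
        rw [pow_succ']; group
      rw [h1, ih, ← conj_pow, hc, ← pow_mul, pow_succ' 2 m]
  obtain ⟨m, hm⟩ : ∃ m : ℕ, w = x ^ 2 ^ m := by
    have h1 : k % 5 < 5 := Nat.mod_lt _ (by norm_num)
    have h2 : k % 5 ≠ 0 := fun h => hw1 (by rw [hk5, h, pow_zero])
    have h3 : k % 5 = 1 ∨ k % 5 = 2 ∨ k % 5 = 3 ∨ k % 5 = 4 := by omega
    rcases h3 with h | h | h | h
    · exact ⟨0, by rw [hk5, h]; rfl⟩
    · exact ⟨1, by rw [hk5, h]; rfl⟩
    · refine ⟨3, ?_⟩
      rw [hk5, h, show 2 ^ 3 = 5 + 3 by norm_num, pow_add, hx5, one_mul]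
    · exact ⟨2, by rw [hk5, h]; rfl⟩
  refine ⟨g * c ^ m, ?_⟩
  rw [hwy', hm, ← hp]
  group

/-- the fixed element of order five -/
def mX : M4 := ⟨2, 2, 2, 0, 0, 1, 2, 1, 0, 2, 0, 2, 1, 2, 2, 2⟩

/-- an element with `c x c⁻¹ = x ^ 2` -/
def mC : M4 := ⟨2, 2, 0, 0, 1, 2, 0, 0, 2, 1, 1, 1, 0, 2, 2, 1⟩

theorem mX_ok : ok4 1 mX = true := by decide +kernel

theorem mC_ok : mul4 mC mX = mul4 (mul4 mX mX) mC := by
  simp only [mC, mX, mul4]

theorem exists_fix : ∃ x c : G 2 (ZMod 3), orderOf x = 5 ∧ c * x * c⁻¹ = x ^ 2 := by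
  have hx : toM mX ∈ Matrix.symplecticGroup (Fin 2) (ZMod 3) := by
    rw [toM, mem_iff]
    decide +kernel
  have hc : toM mC ∈ Matrix.symplecticGroup (Fin 2) (ZMod 3) := by
    rw [toM, mem_iff]
    decide +kernel
  refine ⟨⟨_, hx⟩, ⟨_, hc⟩, five ?_, ?_⟩
  · have h1 := ok4_spec mX_ok
    rw [Nat.cast_one, one_smul] at h1
    exact h1
  · rw [mul_inv_eq_iff_eq_mul, pow_two]
    apply Subtype.ext
    change toM mC * toM mX = toM mX * toM mX * toM mC
    rw [← toM_mul, ← toM_mul, ← toM_mul, mC_ok]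

/-- **`Sp_4(3)`** -/
theorem two_sp43 : ∃ x c : G 2 (ZMod 3), orderOf x = 5 ∧ c * x * c⁻¹ = x ^ 2 ∧
    ∀ g : G 2 (ZMod 3), g ∉ Subgroup.center (G 2 (ZMod 3)) →
      ∃ u v z : G 2 (ZMod 3), z ∈ Subgroup.center (G 2 (ZMod 3)) ∧ g = z * ((u * x * u⁻¹) * (v * x * v⁻¹)) := by
  obtain ⟨x, c, hx, hc⟩ := exists_fix
  refine ⟨x, c, hx, hc, fun g hg => ?_⟩
  obtain ⟨t, A, C₁, D₁, E₁, htg, hC, hAdet, hAns⟩ := exists_corner (by norm_num) hg (Δ := 1) one_ne_zero
  obtain ⟨R, hR⟩ := exists_gl (M := A) (by rw [hAdet]; exact one_ne_zero)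
  obtain ⟨T, S, hT, hS, e, hCS, -⟩ := gauss htg R hR
  have hS0 : S ≠ 0 := by
    rintro rfl
    exact hC (by rw [hCS, Matrix.mul_zero])
  obtain ⟨hdet, hcomm⟩ := comp_all (A 0 0) (A 0 1) (A 1 0) (A 1 1) (by rw [← hAdet, Matrix.det_fin_two])
    (by
      rintro ⟨h1, h2, h3⟩
      apply hAns (A 0 0)
      ext i j
      (revert i j; simp only [h1, h2, h3, _root_.Fin.forall_fin_succ, Fin.isValue, _root_.Matrix.scalar_apply, _root_.Fin.succ_zero_eq_one, _root_.IsEmpty.forall_iff, _root_.and_true, _root_.Matrix.diagonal_apply_eq, _root_.ne_eq, _root_.zero_ne_one, _root_.not_false_eq_true, _root_.Matrix.diagonal_apply_ne, _root_.and_self, _root_.Fin.succ_ne_zero]))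
  have hAe : !![A 0 0, A 0 1; A 1 0, A 1 1] = A := by
    ext i j
    fin_cases i <;> fin_cases j <;> rfl
  rw [hAe] at hcomm
  have hd0 : (cW (A 0 0) (A 0 1) (A 1 0) (A 1 1)).det ≠ 0 := by
    rw [Matrix.det_fin_two]
    exact hdet
  obtain ⟨W, hW⟩ := exists_gl hd0
  obtain ⟨K, hK⟩ : ∃ K : GL (Fin 2) (ZMod 3), (K : Matrix (Fin 2) (Fin 2) (ZMod 3)) = cA (A 0 0 + A 1 1) :=
    exists_gl (by rw [cA, Matrix.det_fin_two_of]; simp only [_root_.Fin.isValue, _root_.MulZeroClass.zero_mul, _root_.mul_one, _root_.sub_neg_eq_add, _root_.zero_add, _root_.ne_eq, _root_.one_ne_zero, _root_.not_false_eq_true])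
  have hRe : R = W * K * W⁻¹ := by
    rw [eq_mul_inv_iff_mul_eq]
    apply Units.ext
    rw [Units.val_mul, Units.val_mul, hR, hW, hK, hcomm]
  have hup := lv_up W⁻¹ hS
  rw [map_inv, inv_inv] at hup
  obtain ⟨S', hS'⟩ : ∃ S', S' = ((W⁻¹ : GL (Fin 2) (ZMod 3)) : Matrix (Fin 2) (Fin 2) (ZMod 3)) * S *
    ((W⁻¹ : GL (Fin 2) (ZMod 3)) : Matrix (Fin 2) (Fin 2) (ZMod 3))ᵀ := ⟨_, rfl⟩
  have hS's : S'ᵀ = S' := by
    rw [hS', transpose_mul, transpose_mul, transpose_transpose, hS, Matrix.mul_assoc]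
  have hup' : (lv W)⁻¹ * up S hS * lv W = up S' hS's := by
    rw [hup]
    exact up_congr _ hS'.symm
  have hS'0 : S' ≠ 0 := by
    rintro rfl
    rw [up_zero] at hup'
    have h1 : up S hS = 1 := by
      have h2 : up S hS = lv W * ((lv W)⁻¹ * up S hS * lv W) * (lv W)⁻¹ := by group
      rw [h2, hup']; group
    have h2 := h1.trans up_zero.symm
    exact hS0 (up_inj h2)
  have hlm : (lv W)⁻¹ * lo T hT * lv W ∈ Lo 2 (ZMod 3) := by
    have := Lo_conj W⁻¹ (lo_mem hT)
    rwa [map_inv, inv_inv] at this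
  obtain ⟨u, v, z, hu, hv, hz, huv⟩ := fac_normal _ hK hS's hS'0 hlm
  obtain ⟨p, rfl⟩ := conj_five hx hu hc
  obtain ⟨q, rfl⟩ := conj_five hx hv hc
  refine ⟨t⁻¹ * lv W * p, t⁻¹ * lv W * q, z, hz, ?_⟩
  have e2 : g = t⁻¹ * (lv W * (((lv W)⁻¹ * lo T hT * lv W) * lv K * ((lv W)⁻¹ * up S hS * lv W)) * (lv W)⁻¹) * t := by
    have e3 : lv W * (((lv W)⁻¹ * lo T hT * lv W) * lv K * ((lv W)⁻¹ * up S hS * lv W)) * (lv W)⁻¹ = t * g * t⁻¹ := by
      rw [e, hRe]; simp only [map_mul, map_inv]; group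
    rw [e3]; group
  rw [hup', huv] at e2
  rw [e2]
  have h4 := Subgroup.mem_center_iff.1 hz
  have h5 : ∀ w r : G 2 (ZMod 3), t⁻¹ * (lv W * (z * w) * (lv W)⁻¹) * t = z * ((t⁻¹ * lv W) * w * (t⁻¹ * lv W)⁻¹) := by
    intro w _
    calc t⁻¹ * (lv W * (z * w) * (lv W)⁻¹) * t = (t⁻¹ * lv W * z) * (w * (t⁻¹ * lv W)⁻¹) := by group
      _ = z * (t⁻¹ * lv W) * (w * (t⁻¹ * lv W)⁻¹) := by rw [h4]
      _ = _ := by group
  rw [h5 _ 1]
  group

/-- **`PSp_4(3)`**: every nonidentity element is a product of two conjugates of an element of order five -/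
theorem exists_five {F : Type*} [Field F] [Finite F] (h3 : Nat.card F = 3) : ∃ x : Cfsg.PSp 2 F, orderOf x = 5 ∧
    ∀ g : Cfsg.PSp 2 F, g ≠ 1 → ∃ u v : Cfsg.PSp 2 F, g = (u * x * u⁻¹) * (v * x * v⁻¹) := by
  have := Fintype.ofFinite F
  have : Fact (Nat.Prime 3) := ⟨Nat.prime_three⟩
  have : Fact (Nat.Prime 5) := ⟨by norm_num⟩
  let φ : ZMod 3 ≃+* F := ZMod.ringEquivOfPrime F Nat.prime_three (by rw [← Nat.card_eq_fintype_card, h3])
  let e : G 2 (ZMod 3) ≃* G 2 F := gmap 2 φ
  obtain ⟨x, c, hx, hc, h⟩ := two_sp43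
  have hcen : ∀ z : G 2 (ZMod 3), z ∈ Subgroup.center (G 2 (ZMod 3)) → (QuotientGroup.mk (e z) : Cfsg.PSp 2 F) = 1 := by
    intro z hz
    refine (QuotientGroup.eq_one_iff _).2 ?_
    rw [Subgroup.mem_center_iff] at hz ⊢
    intro k
    apply e.symm.injective
    rw [map_mul, map_mul, e.symm_apply_apply, hz]
  refine ⟨QuotientGroup.mk (e x), ?_, fun g hg => ?_⟩
  · refine orderOf_eq_prime ?_ ?_
    · rw [← QuotientGroup.mk_pow, ← map_pow, ← hx, pow_orderOf_eq_one, map_one]
      rfl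
    · intro h1
      have h2 := (QuotientGroup.eq_one_iff _).1 h1
      rw [Subgroup.mem_center_iff] at h2
      have h4 : c * x = x * c := by
        apply e.injective
        rw [map_mul, map_mul, h2]
      rw [h4, mul_inv_cancel_right, pow_two, left_eq_mul] at hc
      rw [hc, orderOf_one] at hx
      omega
  · obtain ⟨g, rfl⟩ := QuotientGroup.mk_surjective g
    obtain ⟨u, v, z, hz, huv⟩ := h (e.symm g) (by
      intro hcc
      apply hg
      rw [← hcen _ hcc, e.apply_symm_apply])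
    refine ⟨QuotientGroup.mk (e u), QuotientGroup.mk (e v), ?_⟩
    have h5 : g = e z * ((e u * e x * (e u)⁻¹) * (e v * e x * (e v)⁻¹)) := by
      apply e.symm.injective
      rw [huv]
      simp only [_root_.map_mul, _root_.MulEquiv.symm_apply_apply, _root_.map_inv]
    rw [h5]
    have h6 := hcen z hz
    rw [QuotientGroup.mk_mul, h6, one_mul]
    rfl

/-- **`PSp_4(3)`** -/
theorem row3_psp43 {F : Type*} [Field F] [Finite F] (h3 : Nat.card F = 3) : H210.TC.Row3 (Cfsg.PSp 2 F) := by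
  obtain ⟨x, hx, h⟩ := exists_five h3
  exact H210.TC.Row3.of_sq (by rw [hx]; norm_num) (by rw [hx]; norm_num) h

end Cfsg.Agent.H910.TC
end

-- part: H812/TC/SpSplit
section
/-!
# S2464, row `PSp_4(q)`, a prime `r ≥ 5` divides `q - 1` (helper812)

The regular element `diag(a, a², a⁻¹, a⁻²)` of order `r` of the split torus.
-/

set_option autoImplicit false
set_option linter.unusedSectionVars false

namespace Cfsg.Agent.H812.TC.SpSplit

open CoxeterSystem Cfsg.Agent.ChevalleyStructure.CoxeterGeom Cfsg.Agent.Tits.Roots Cfsg.Agent.Tits.Core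
  Cfsg.Agent.Nodes.Reps Cfsg.Agent.Nodes.BNOf Cfsg.Agent.Nodes.StabComb
  Cfsg.Agent.Nodes.RGDLib Cfsg.Agent.Nodes.Bruhat Cfsg.Agent.Nodes.OppDec Cfsg.Agent.Nodes.LeviDec
open Cfsg.Agent.Nodes
open Cfsg.Agent.Nodes.TypeC
open Cfsg.Agent.TitsThree.Siegel Cfsg.Agent.TitsThree.WittFrame Cfsg.Agent.TitsThree.WittWeyl
open Cfsg.Agent.Nodes.WittRoot (XG ZG PG PG_ne PG_self Amb Mono)
open Cfsg.Agent.Nodes.WittRGD (Tor b_ne_zero)
open Cfsg.Agent.H162.GaussSL Cfsg.Agent.H162.GaussReg Cfsg.Agent.H162.GaussLevi Cfsg.Agent.H162.GaussMain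
open Cfsg.Agent.H156.SqPhi Cfsg.Agent.H156.SqBlk Cfsg.Agent.H156.SqTor Cfsg.Agent.H156.SqFix
open Cfsg.Agent.TitsThree.SpIdent
open Cfsg.Agent.OddHalf.NI.Mult
open Cfsg.Agent.OddHalf.NI

/-- the eigenvalues -/
def ch {F : Type} [Field F] (a : Fˣ) (i : Fin 2) : Fˣ := if i = 0 then a else a * a

theorem lam_ne_one {F : Type} [Field F] {a : Fˣ} {r : ℕ} (hr : r.Prime) (h5 : 5 ≤ r) (ha : orderOf a = r)
    (x y : Fin 2 × Bool) (h : x.1 ≠ y.1 ∨ x = y) : lam (ch a) x * lam (ch a) y ≠ 1 := by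
  have key : ∀ k : ℕ, 1 ≤ k → k < 5 → a ^ k ≠ 1 := fun k h1 h2 h3 => by
    have := orderOf_le_of_pow_eq_one (by omega) h3
    omega
  have key' : ∀ k : ℕ, 1 ≤ k → k < 5 → (a : F) ^ k ≠ 1 := fun k h1 h2 h3 => by
    apply key k h1 h2
    apply Units.ext
    rw [Units.val_pow_eq_pow_val, h3, Units.val_one]
  have ha0 : (a : F) ≠ 0 := a.ne_zero
  have e1 := key' 1 (by norm_num) (by norm_num)
  have e2 := key' 2 (by norm_num) (by norm_num)
  have e3 := key' 3 (by norm_num) (by norm_num)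
  have e4 := key' 4 (by norm_num) (by norm_num)
  obtain ⟨i, s⟩ := x
  obtain ⟨j, t⟩ := y
  fin_cases i <;> fin_cases j <;> cases s <;> cases t <;> simp only [lam, ch, _root_.Fin.zero_eta, _root_.Fin.isValue, _root_.ne_eq, _root_.not_true_eq_false, _root_.or_true, _root_.Bool.false_eq_true, ↓ _root_.reduceIte, _root_.Units.val_inv_eq_inv_val, _root_.Prod.mk.injEq, _root_.and_false, _root_.or_self, _root_.Bool.true_eq_false, _root_.Fin.mk_one, _root_.zero_ne_one, _root_.not_false_eq_true, _root_.and_true, _root_.or_false, _root_.one_ne_zero, _root_.mul_inv_rev, _root_.Units.val_mul, _root_.and_self, _root_.Units.ne_zero, _root_.inv_mul_cancel_left₀, _root_.Units.val_eq_one, _root_.mul_inv_cancel_left₀, _root_.inv_eq_one, _root_.inv_mul_cancel_right₀, _root_.mul_inv_cancel_right₀] at h ⊢ <;> intro hh <;>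
    [(exact e2 (by field_simp at hh; linear_combination -hh)); (exact e2 (by field_simp at hh; linear_combination hh));
     (exact e3 (by field_simp at hh; linear_combination -hh)); (exact key 1 (by norm_num) (by norm_num) (by rw [hh, one_pow]));
     (exact key 1 (by norm_num) (by norm_num) (by rw [hh, one_pow])); (exact e3 (by field_simp at hh; linear_combination hh));
     (exact e3 (by field_simp at hh; linear_combination -hh)); (exact key 1 (by norm_num) (by norm_num) (by rw [hh, one_pow]));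
     (exact key 1 (by norm_num) (by norm_num) (by rw [hh, one_pow])); (exact e3 (by field_simp at hh; linear_combination hh));
     (exact e4 (by field_simp at hh; linear_combination -hh)); (exact e4 (by field_simp at hh; linear_combination hh))]

theorem row3_split {F : Type} [Field F] [Fintype F] {r : ℕ} (hr : r.Prime) (h5 : 5 ≤ r) (hd : r ∣ Fintype.card F - 1) :
    H210.TC.Row3 (Cfsg.PSp 2 F) := by
  classical
  have hF : 4 ≤ Fintype.card F := by
    have h1 : 1 < Fintype.card F := Fintype.one_lt_card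
    have := Nat.le_of_dvd (by omega) hd
    omega
  obtain ⟨a, ha⟩ : ∃ a : Fˣ, orderOf a = r := by
    have : Fact r.Prime := ⟨hr⟩
    refine exists_prime_orderOf_dvd_card r ?_
    rwa [Fintype.card_units]
  obtain ⟨p, hp⟩ := CharP.exists F
  have hpp : Fact p.Prime := ⟨CharP.char_is_prime F p⟩
  have : Finite (CoxeterMatrix.B 2).Group := TypeC.finite_W (CoxeterMatrix.B 2).toCoxeterSystem
  have : Finite ((Fin 2 ⊕ Fin 2 → F) ≃ₗ[F] (Fin 2 ⊕ Fin 2 → F)) :=
    Finite.of_injective (fun g : (Fin 2 ⊕ Fin 2 → F) ≃ₗ[F] (Fin 2 ⊕ Fin 2 → F) =>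
      (g : (Fin 2 ⊕ Fin 2 → F) → (Fin 2 ⊕ Fin 2 → F))) DFunLike.coe_injective
  have hA : Amb (frame 2 F) (isos (_root_.Cfsg.Agent.TitsThree.SpIdent.form 2 F)) := WittU.amb_Sp
  have hAT := WittAll.AmbT.of_amb hA p
  have hσ : ∀ c, (_root_.Cfsg.Agent.TitsThree.SpIdent.form 2 F).σ c = c := fun c => rfl
  have R := rgd_restrict (WittAll.rgdC hAT (p0 := adm (1 : F)) one_ne_zero
    (CoxeterMatrix.B 2).toCoxeterSystem) (isos (_root_.Cfsg.Agent.TitsThree.SpIdent.form 2 F)) (fun x _ => hA.rg_le x)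
    (fun i => WittAll.nn_mem hAT (adm (1 : F)) i)
  have hG1 : G1 (CoxeterMatrix.B 2).toCoxeterSystem (isCartan 2)
      (fun x => (WittRoot.rg (frame 2 F) x).subgroupOf (isos (_root_.Cfsg.Agent.TitsThree.SpIdent.form 2 F))) = ⊤ := by
    apply SpClosed.gen (by omega)
    · intro i
      exact X_le_G1 (X := fun x => (WittRoot.rg (frame 2 F) x).subgroupOf (isos (_root_.Cfsg.Agent.TitsThree.SpIdent.form 2 F)))
        (isRoot_sr _ _ i)
    · intro i
      exact X_le_G1 (X := fun x => (WittRoot.rg (frame 2 F) x).subgroupOf (isos (_root_.Cfsg.Agent.TitsThree.SpIdent.form 2 F)))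
        (isRoot_sr _ _ i).neg
  have C := WittCoord.coord (SpClosed.lf (F := F) (m := 2)) hA
  have hconn := Chart.Ty.irrC 2 (by omega)
  have hsimp : IsSimpleGroup (Cfsg.PSp 2 F) := Cfsg.Agent.S0270.result 2 (by omega) fun _ => by omega
  have hs : tor (frame 2 F) (ch a) ∈ isos (_root_.Cfsg.Agent.TitsThree.SpIdent.form 2 F) := isIso_Phi (frame 2 F) _ hσ _
  have hnf : NoFix (CoxeterMatrix.B 2).toCoxeterSystem (isCartan 2)
      (fun x => (WittRoot.rg (frame 2 F) x).subgroupOf (isos (_root_.Cfsg.Agent.TitsThree.SpIdent.form 2 F))) (JJ 2 1) ⟨tor (frame 2 F) (ch a), hs⟩ :=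
    noFixC hσ hs hA.iso (tor_apply _ _) (fun w hw => tor_V0 _ _ hw)
      (fun x y hxy h => lam_ne_one hr h5 ha x y (Or.inl hxy))
      (fun x q _ hc => by
        have h1 : q.w = 0 := q.ok
        have h2 : q.c = 0 := by
          by_contra h2
          exact lam_ne_one hr h5 ha x x (Or.inr rfl) (mul_right_cancel₀ h2 (by rw [hc, one_mul]))
        exact Frame.Adm.ext h1 h2)
  have hJ : JJ 2 1 = ∅ := by
    ext l
    simp [JJ]
  rw [hJ] at hnf
  have hT : (⟨tor (frame 2 F) (ch a), hs⟩ : isos (_root_.Cfsg.Agent.TitsThree.SpIdent.form 2 F)) ∈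
      (Tor (frame 2 F) (isos (_root_.Cfsg.Agent.TitsThree.SpIdent.form 2 F))).subgroupOf (isos (_root_.Cfsg.Agent.TitsThree.SpIdent.form 2 F)) := tor_mem_Tor hs
  have hinv : ∃ y : isos (_root_.Cfsg.Agent.TitsThree.SpIdent.form 2 F), y * ⟨tor (frame 2 F) (ch a), hs⟩ * y⁻¹ =
      (⟨tor (frame 2 F) (ch a), hs⟩ : isos (_root_.Cfsg.Agent.TitsThree.SpIdent.form 2 F))⁻¹ := by
    obtain ⟨y, hy, hm⟩ := exists_monoZ hA (p := adm (1 : F)) one_ne_zero Finset.univ
    obtain ⟨h1, -⟩ := hinv_of (k := 2) hσ hA (χ := ch a) (S := Finset.univ)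
      (fun j hj => absurd (Finset.mem_univ j) hj) hy hm (ι := id) (fun i => Finset.mem_univ _)
    exact ⟨⟨y, hy⟩, Subtype.ext h1⟩
  -- order
  let π := toPSp (m := 2) (F := F)
  have hπ : Function.Surjective π := toPSp_surjective
  have hker := WittAll.ker_le_center (TitsThree.KInstSp.model 2 F)
  let s₀ : isos (_root_.Cfsg.Agent.TitsThree.SpIdent.form 2 F) := ⟨tor (frame 2 F) (ch a), hs⟩
  have hsr : s₀ ^ r = 1 := by
    have h1 : ∀ k : ℕ, tor (frame 2 F) (ch a) ^ k = tor (frame 2 F) (ch a ^ k) := by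
      intro k
      induction k with
      | zero =>
        rw [pow_zero, pow_zero]
        symm
        have := tor_mul (frame 2 F) (1 : Fin 2 → Fˣ) 1
        rw [one_mul] at this
        exact (mul_eq_left.1 this.symm)
      | succ k ih => rw [pow_succ, pow_succ, ih, tor_mul]
    apply Subtype.ext
    show tor (frame 2 F) (ch a) ^ r = 1
    rw [h1]
    have h2 : ch a ^ r = 1 := by
      funext i
      rw [Pi.pow_apply, Pi.one_apply]
      unfold ch
      split_ifs
      · rw [← ha]; exact pow_orderOf_eq_one a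
      · rw [mul_pow, ← ha, pow_orderOf_eq_one, one_mul]
    rw [h2]
    have := tor_mul (frame 2 F) (1 : Fin 2 → Fˣ) 1
    rw [one_mul] at this
    exact (mul_eq_left.1 this.symm)
  have hall : ∀ g : Cfsg.PSp 2 F, ∃ u v : Cfsg.PSp 2 F, g = (u * π s₀ * u⁻¹) * (v * π s₀ * v⁻¹) := by
    intro g
    have key : ∀ g' : isos (_root_.Cfsg.Agent.TitsThree.SpIdent.form 2 F), π g' = g → (g' ∉ (RGD.B (CoxeterMatrix.B 2).toCoxeterSystem (isCartan 2)
        ((Tor (frame 2 F) (isos (_root_.Cfsg.Agent.TitsThree.SpIdent.form 2 F))).subgroupOf (isos (_root_.Cfsg.Agent.TitsThree.SpIdent.form 2 F)))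
        (fun x => (WittRoot.rg (frame 2 F) x).subgroupOf (isos (_root_.Cfsg.Agent.TitsThree.SpIdent.form 2 F)))).normalCore ∨ g' = 1) →
        ∃ x y : Cfsg.PSp 2 F, g = (x * π s₀ * x⁻¹) * (y * π s₀ * y⁻¹) := by
      intro g' hg' h1
      obtain ⟨x, y, e⟩ := main0 R hG1 C hconn hT hnf hinv h1
      refine ⟨π x, π y, ?_⟩
      rw [← hg']
      conv_lhs => rw [e]
      simp only [map_mul, map_inv]
      rfl
    by_cases hg1 : g = 1
    · exact key 1 (by rw [map_one, hg1]) (Or.inr rfl)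
    · obtain ⟨g', hg'⟩ := hπ g
      refine key g' hg' (Or.inl fun h1 => hg1 ?_)
      rw [← hg']
      exact core_le_ker R π hπ hker h1
  have hne : π s₀ ≠ 1 := by
    intro h1
    have h2 : ∀ g : Cfsg.PSp 2 F, g = 1 := fun g => by
      obtain ⟨u, v, e⟩ := hall g
      rw [e, h1]
      group
    obtain ⟨x, hx⟩ := exists_ne (1 : Cfsg.PSp 2 F)
    exact hx (h2 x)
  have ho : orderOf (π s₀) = r := by
    have h1 : orderOf (π s₀) ∣ r := orderOf_dvd_of_pow_eq_one (by rw [← map_pow, hsr, map_one])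
    rcases (Nat.dvd_prime hr).1 h1 with h2 | h2
    · exact absurd (orderOf_eq_one_iff.1 h2) hne
    · exact h2
  refine H210.TC.Row3.of_sq (x := π s₀) (by rw [ho]; exact hr) ?_ fun g _ => hall g
  rw [ho]
  have h2 : Nat.Coprime r 2 := (Nat.coprime_primes hr Nat.prime_two).2 (by omega)
  have h3 : Nat.Coprime r 3 := (Nat.coprime_primes hr Nat.prime_three).2 (by omega)
  exact Nat.Coprime.mul_right h2 h3

end Cfsg.Agent.H812.TC.SpSplit
end

-- part: H767/S44/Code
section
/-!
# S2464, S2452: `Sp₄(4)`: products of conjugates of two elements of order 17 (helper767)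

`xc`, `yc` : codes of two nonconjugate elements of order 17; `nf r k` : the 256 normal forms of helper240;
`tA` : conjugators `u, v` with `nf r k = (u x u⁻¹) (v y v⁻¹)`; `tB` : conjugators with `nf r k = (u x u⁻¹) (v x v⁻¹) (w x w⁻¹)`.
-/

set_option autoImplicit false

namespace Cfsg.Agent.H767.S44

open Cfsg.Agent.H240.Sp44

/-- an element of order 17 -/
def xc : ℕ := 1923174278

/-- another element of order 17 -/
def yc : ℕ := 602660907

/-- the inverse of a symplectic matrix -/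
def iv (a : ℕ) : ℕ := mu (mu jc (tr a)) jc

/-- conjugate -/
def cjc (u x : ℕ) : ℕ := mu (mu u x) (iv u)

/-- symplectic -/
def spc (a : ℕ) : Bool := Nat.beq (mu (mu a jc) (tr a)) jc

/-- normal forms -/
def nf (r k : ℕ) : ℕ :=
  mu (lc r) (uc (Nat.land k 3) (Nat.land (Nat.shiftRight k 2) 3) (Nat.land (Nat.shiftRight k 4) 3))

/-- first table -/
def tA : ℕ := 78341222529336043068988143837258024296728660766243817781877403604306757509745318386142382316352808831437800498380609039431461575162175488861500666281058559265424942857547346133389741433899561405075814957375964115517369532945469325527337982268673002805190247746094653422512208097822443651648722224717226382648945654707422002186903348425008226168542270911020049908789730085639019462237324874891792762690849710690363565120157326522531235871572907443232843630285013254596447149602601268332182115817181073453585656867559202157627089830733052005492123708419421534792465661490404103657689217846136959619953565387612951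39935929277068583118100768850051674201020226459448301093660223244430530435159507440468275040115827807381240229443430474579775736901366144227624377541974939472339677652423028408192264537301555278038188661162096297426384245068268249624440858541060275666656623777220145165833500493129586786979869949830364076223030276018099837403296912097370216323201411958178314794514665787702632969114940277599856528719754735072788246721296186418884101280854911094981216552829927277510684136269862484931360057186147974887380048486163009226399442235592890576113223876432912216644843507936613527606759567371278327982230851845945100669402326247054913123798535887059945987878912884017008114832728085637221420375513339037353712301404908809980737236680935065083251537118765114191477426770652121949081718832246056550145248063344583082300440821512672512825964745059556198809732558032064069565441231361443528646422594720397398896577592510454657141347794221767028075977642177555059979095723255439035711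04999909159602809780991920771495545343435650283166581206352754460297873772712024706452594660461448483584392170347982670267791292969470481892500114394021353549444199944256525331740366883227911510784275246244193052334168744311311331681145142745052987230632386487697549191568281959643685358800846895923261604729022989432107762384488640036792681576424103396003979023802175753022316782309241961399846722591529878565694268150097655850093350662505071256206953560290248555822520178113392339871870790711069516119028292815141654828309695131219536280704368285338564966163228072025487094220525180248630726318794593763255221336615217613634118804329198227676085557563811943554767665222105719617564575072029618218701076497846582520051656143521443622617079150967817077296124593911507820785926436619065249257825235907500561702158899157212887544757259733406808869384972735749143860460193707154327468564650331445674406225999739773500272456575920763403581304941113382193485721752395623027389689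01048618234899374242029125893948461258782446610215071509209503607747977336851352674647832107337515123341060390654899746125120202629891629464362017225634142416240760531210757775874371349448155510900797258761430248612774243254070121385182380442119698297750959880972674159465091434906111696648093326707469393757266014227872272913818159116327188725119022597028297116339416707499544729436842145628748825375351476188411981996327113977250094643846589532838639674984701652065917036162059134473546010617411197852753041658496881231388704853863575966189833756829492954132865013821569674999336020182879093633508156371650677361507942394932045543129371996985560661333383778968314193352007963977432707769535872239420824278008465996391169263422935329648506913927745268804465723088343861368392681540093290534238189020947013703311442926363519911799974630054659989469294623417546734913260419518924567325849213554332509292260682250523701126892760252764016012654322287416948349891794833021646247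5819258373989896891713383441809214395902391969720985110039895516358467763582297795715487074077155219186930451816833718431642129676941961304132133831835665155129302029713523414477915569458035035976451603561361305305945446146676969543226218746689768028652155987641970403597150268171436200614508733992176771347426125438890550820388691453864743808602759524312142427219688502163490436011865667403727960764337691981420505920979770653857404822273340073969966585603144279918724040625156690369455970159919017013356342698235960539139852808918549879936942266333000529973579898203795882624562772584450035882325371765997037664354474872270264702998697404829417858985787894694606985678432959926929125496115058016506943254790814836250308140229438916143236162570815682894749187745534198193714392132161956269464240245669485817224623447381379863155241713719368902254692369637119675756410738394011348785086018823015838057233391533774329166027463612138718626984458603194838896230991076627708030451576635346143889424926953525518620038839330512742675955861701648545093391769866082864908379510943790699002300180044046520421806996608951356312585594887956806708664772206710008574998257221303399706230588588285709805072790660205435680236241297363446948976792503840047584211367405297096529120637962168925433393574401201271911329687993367821864435760072472558509470937472787290120071996151464509057111101305285643841635039052801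

/-- second table -/
def tB : ℕ := 79221137916014340749570538170102252379995890215040899656386381138523444724091676120239291858426886550343708448858367338731139567872154455164780562728564371534541546564253946982892728566853537457346933708632838324622168793334328170973978420967835088087863791264810787659273942224492831285603135180528618677034827935634680242206169684773068103788622694497452357254979858912623996418638583872672178880133381404272271982351231171124005584129069778025538815803614904748510218217593091360374395733362566024428366120945597581904914681580046226234325006588806546241087132670136718464222234890916801026652797630370345431956003787130539014005500784985820850663164321085768234840906818452392979471352184229107236213900152311851402204661988492416918637703951333158909222304722132089273336281484233465214538077172730734861990505530313665984630682799134667531126897699493249332566636988275358126135686014878189544226252515272192841852022676878135410028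13518540473023078282355655799778679061589675541388750634618332087669131949594904953354588829168449163874423257688552053909242260357856816020131102188779469127350095870575874902799660094643025040318758223652977370334740137573321565599062713016003020918265272379012050621845141632920977317509172446342751009542288711672119283370107129649134691770424807068803952049190129719350310177443183397191897910669338655220171880343975012399663329255641631047119646646839601716388270167636364202264227126718345555564525974891383221925737859210600401603573549269581276515035623078946010201807032033469855052049252271770276673902310164766383870548178254898268792278450201003950984253147586477564929586349889184753306014726762412768780285274917229194731130296650864285228291212441998353798436833700523729949710221159192293506931578752721438568334847483827137979165196007008836931863371480807657278620511917976188643598692039666330970393860507951882209589896065200855034063435099634646848939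92037633081112580682756760957359870619966866152348414994002442894011680029631954709723899809821533269644531684354558721750294498642163472139882311367391354066752918623716183663493741023795657940285650434460139353021141932368292674958967739920389414455460927136611919914368317777829007322893993409124532086341023462141529049202421380522232641298820004834576359842851605718475223914343200894204402515452453902842303262673965119186642934349778323369198280099579059554291662800817725077824931268378737118639731811514337951416833785442822870002633522171026887148970132279281118270135787028763108580130981118240796135959831867378548398011392404869797665060998545405441737457720561193421860484097383178592770367460714817139657650510313651518005403218646694388060365258718659785510833406819747295539263436240908886741013862796875873335914266664020782230484276643905218948224910726483006934648597602645307687569173240020452499743138489720593673150683413846926793906941641718156666488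41854856596725153723760371617501169093192324765822836566021218545414371691455616233745245213356501225404999858835614301372737196845497744012589569116165665856393021382353840885460697901800628525043767067920429185142457081772334139522222385851570287259215240089231898586075055383202744467935850266192259778802899212745817347725444974453946129168308331459481016907548073814760689005073194756875640919355695793268772866163620959060978872781484812759469919762412636328413442264082223785147197460726020135066184902224642749608751892658774328254339239602115396516128609245842716977702534610518965645537192156960508945765884262432395573604681290988360458959922007244525581564998095561463730444355636380191091459820291132460711569052263506647832651160337576892067849597190357903731518289636954787585011730605658798829856860661543667277778261434816690480636270099577327067028351193522115835239895635422433923970760218167545957369130288759798601806246865008669601153432984351790833574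81050846299252464292716212660584596312695887904624628418025521391502847668195314786002443733810634348742035562445632444954945477192329798719538065100687645232027581697699326428538497199715488809540035514945581840962246876556915154104127016259137057562359752537887831833686061027467264246668093447854153190727107105475728545908303188566308390656215581070531821988244896259539961239537085705551820156818362577361916692236366715527964891145666795111944276001598842691781200425590504307008475480364300881383479685361996928260378486064476838004626134301601537958908892952860764130360259396448712123419088913239646749279943883510886101402569884607397849525685334474496190370170533970868237406682454696375075450325891802374296158079933438567903784066518567641575573048497964595377676115814348951176450125087972170270314285301697844111889399991240020482382890174622348563225883110272341974345291659660250422472849124453552866666578839364563683247162507606016542733080636931842522618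82303907269432478083513802290900675927258276163626277170730983952486355929473309021300333837613800295656053248323410662155705223015066463988308425729496698501083611928457646035238827105284394837970005028042376100475199250653610653229946981457922189999535708450769967540712723411764276233392895345517803269134436479878326328222175754999604756736119415641507951058616298970463654041846121685293382515708326179710374274307210710722448941226109133140502767966359202223729146144983686165100135720416181623235611225851686222945911079112582235005858950976792850746344710048051836812763945267061671749364158303334713449446075104626593326545951698582798747745022043439424798798653727966844566725274863096431810314761242980751973622535936967606655211994476500700873065278661186515177821476237598792139180250987521384390662414889786669605681982019978597039738700866229587172220508692649314346589709387211808918833571716381317953440690460193675417653300411345952042321177130520077536092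70408187443061335774904303753861776969882223090994321388606305365987832354836114680906846522391225480747145319606378626211370976067985792308846634310755980131551682863693033574266793514099756874159277953705853769215292175801393844719592120524934862480450242681564491995719356800290350814861658462428127634227510475629514477160831721361135841896504354800230530397266972262872181327448983566779867166227175810198623034757726376630097275888082413161768977570296406479786366379359586445074406963331035663137337987901559408388291472935621255546192797328940127602635322602734060195665432192459207530733889437877044477728035904211487585858530818571336254650498872277036755311815321690440903230909623974671068937109678897809110182344401884302538078111619633323219753784183154112405915536409260674332624901175463969185005314356283905107547301201867371643064962910819420945491873196582794898054146141253453421702107589093556662442940219611494022703768532173748711695085437293563489084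6056285236796458503267960746374320788919229409346266800045419171632023842003596662412350874391198905033048497849085549094844532272168618173077248757212438692261049135168660629133256703438803302854994109019864604206873649795645413192229198063541110089932141575454656197886939810857925824169120489616571900084439850673659792364409527409700947431666359996807455098925483928783825372249818036392790107307196847114034029460295224322806243856169260298351162536905007462215827023998862598667888259201623559318065093881333471066089369571707861478008502781887559077814837740387830358087356017967770819486706512955869550030285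

/-- entries -/
def fA (i : ℕ) : ℕ := Nat.land (Nat.shiftRight tA (Nat.mul 32 i)) 4294967295

/-- entries -/
def fB (i : ℕ) : ℕ := Nat.land (Nat.shiftRight tB (Nat.mul 32 i)) 4294967295

/-- two factors -/
def ckA (m u v : ℕ) : Bool :=
  bif spc u then (bif spc v then (bif Nat.beq m ic then true else Nat.beq m (mu (cjc u xc) (cjc v yc))) else false) else false

/-- three factors -/
def ckB (m u v w : ℕ) : Bool :=
  bif spc u then (bif spc v then (bif spc w then Nat.beq m (mu (mu (cjc u xc) (cjc v xc)) (cjc w xc)) else false)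
    else false) else false

def chA (r k : ℕ) : Bool :=
  ckA (nf r k) (fA (Nat.mul 2 (Nat.add (Nat.mul 64 r) k))) (fA (Nat.add (Nat.mul 2 (Nat.add (Nat.mul 64 r) k)) 1))

def chB (r k : ℕ) : Bool :=
  ckB (nf r k) (fB (Nat.mul 3 (Nat.add (Nat.mul 64 r) k))) (fB (Nat.add (Nat.mul 3 (Nat.add (Nat.mul 64 r) k)) 1))
    (fB (Nat.add (Nat.mul 3 (Nat.add (Nat.mul 64 r) k)) 2))

theorem chA_all : (alb 4 fun r => alb 64 (chA r)) = true := by decide +kernel

theorem chB_all : (alb 4 fun r => alb 64 (chB r)) = true := by decide +kernel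

theorem xy_ok : (spc xc && spc yc && p17 xc && p17 yc) = true := by decide +kernel

end Cfsg.Agent.H767.S44
end

-- part: H767/S44/Row
section
/-!
# S2464, S2452, S4173: the row `PSp₄(4)` (helper767)

* `row3_psp_two_four` : `H210.TC.Row3 (PSp 2 F)`, `|F| = 4`: two classes of elements of order 17.
-/

set_option autoImplicit false

namespace Cfsg.Agent.H767.S44

open Matrix Cfsg.Agent.H240.Sp44

section

variable {F : Type*} [Field F] {w : F} (hw : w * w = w + 1) (h2 : (2 : F) = 0)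

include hw h2

theorem sp_mem {c : ℕ} (h : spc c = true) : Dm w c ∈ symplecticGroup (Fin 2) F := by
  have := congrArg (Dm w) (Nat.eq_of_beq_eq_true h)
  rw [Dm_mul hw h2, Dm_mul hw h2, Dm_tr, Dm_jc h2] at this
  exact SymplecticGroup.mem_iff.2 this

/-- the element of a code -/
def el {c : ℕ} (h : spc c = true) : symplecticGroup (Fin 2) F := ⟨Dm w c, sp_mem hw h2 h⟩

theorem coe_inv {c : ℕ} (h : spc c = true) :
    (((el hw h2 h)⁻¹ : symplecticGroup (Fin 2) F) : Matrix (Fin 2 ⊕ Fin 2) (Fin 2 ⊕ Fin 2) F) = Dm w (iv c) := by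
  have hJ : -(Matrix.J (Fin 2) F) = Matrix.J (Fin 2) F := by
    have h1 : (-1 : F) = 1 := by linear_combination -h2
    calc -(Matrix.J (Fin 2) F) = (-1 : F) • Matrix.J (Fin 2) F := by rw [neg_one_smul]
      _ = Matrix.J (Fin 2) F := by rw [h1, one_smul]
  unfold iv
  rw [SymplecticGroup.coe_inv, hJ, Dm_mul hw h2, Dm_mul hw h2, Dm_tr, Dm_jc h2]
  rfl

theorem coe_cj {u x : ℕ} (hu : spc u = true) (hx : spc x = true) :
    ((el hw h2 hu * el hw h2 hx * (el hw h2 hu)⁻¹ : symplecticGroup (Fin 2) F) :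
      Matrix (Fin 2 ⊕ Fin 2) (Fin 2 ⊕ Fin 2) F) = Dm w (cjc u x) := by
  rw [Submonoid.coe_mul, Submonoid.coe_mul, coe_inv]
  unfold cjc
  rw [Dm_mul hw h2, Dm_mul hw h2]
  rfl

omit hw h2 in
theorem hx : spc xc = true := by
  have h := xy_ok
  simp only [Bool.and_eq_true] at h
  exact h.1.1.1

omit hw h2 in
theorem hy : spc yc = true := by
  have h := xy_ok
  simp only [Bool.and_eq_true] at h
  exact h.1.1.2

omit hw h2 in
theorem px : p17 xc = true := by
  have h := xy_ok
  simp only [Bool.and_eq_true] at h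
  exact h.1.2

omit hw h2 in
theorem py : p17 yc = true := by
  have h := xy_ok
  simp only [Bool.and_eq_true] at h
  exact h.2

/-- **the first table** -/
theorem tabA {r k : ℕ} (hr : r < 4) (hk : k < 64) (hne : nf r k ≠ ic) :
    ∃ u v : symplecticGroup (Fin 2) F, Dm w (nf r k) =
      ((u * el hw h2 hx * u⁻¹ * (v * el hw h2 hy * v⁻¹) : symplecticGroup (Fin 2) F) :
        Matrix (Fin 2 ⊕ Fin 2) (Fin 2 ⊕ Fin 2) F) := by
  have h := of_alb (of_alb chA_all r hr) k hk
  unfold chA at h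
  generalize fA (Nat.mul 2 (Nat.add (Nat.mul 64 r) k)) = u at h
  generalize fA (Nat.add (Nat.mul 2 (Nat.add (Nat.mul 64 r) k)) 1) = v at h
  unfold ckA at h
  rcases hu : spc u with _ | _
  · rw [hu, cond_false] at h; cases h
  rw [hu, cond_true] at h
  rcases hv : spc v with _ | _
  · rw [hv, cond_false] at h; cases h
  rw [hv, cond_true] at h
  rcases hm : Nat.beq (nf r k) ic with _ | _
  · rw [hm, cond_false] at h
    refine ⟨el hw h2 hu, el hw h2 hv, ?_⟩
    rw [Nat.eq_of_beq_eq_true h, Submonoid.coe_mul, coe_cj hw h2 hu hx, coe_cj hw h2 hv hy, Dm_mul hw h2]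
  · exact absurd (Nat.eq_of_beq_eq_true hm) hne

/-- **the second table** -/
theorem tabB {r k : ℕ} (hr : r < 4) (hk : k < 64) :
    ∃ u v z : symplecticGroup (Fin 2) F, Dm w (nf r k) =
      ((u * el hw h2 hx * u⁻¹ * (v * el hw h2 hx * v⁻¹) * (z * el hw h2 hx * z⁻¹) : symplecticGroup (Fin 2) F) :
        Matrix (Fin 2 ⊕ Fin 2) (Fin 2 ⊕ Fin 2) F) := by
  have h := of_alb (of_alb chB_all r hr) k hk
  unfold chB at h
  generalize fB (Nat.mul 3 (Nat.add (Nat.mul 64 r) k)) = u at h
  generalize fB (Nat.add (Nat.mul 3 (Nat.add (Nat.mul 64 r) k)) 1) = v at h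
  generalize fB (Nat.add (Nat.mul 3 (Nat.add (Nat.mul 64 r) k)) 2) = z at h
  unfold ckB at h
  rcases hu : spc u with _ | _
  · rw [hu, cond_false] at h; cases h
  rw [hu, cond_true] at h
  rcases hv : spc v with _ | _
  · rw [hv, cond_false] at h; cases h
  rw [hv, cond_true] at h
  rcases hz : spc z with _ | _
  · rw [hz, cond_false] at h; cases h
  rw [hz, cond_true] at h
  refine ⟨el hw h2 hu, el hw h2 hv, el hw h2 hz, ?_⟩
  rw [Nat.eq_of_beq_eq_true h, Submonoid.coe_mul, Submonoid.coe_mul, coe_cj hw h2 hu hx, coe_cj hw h2 hv hx,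
    coe_cj hw h2 hz hx, Dm_mul hw h2, Dm_mul hw h2]

/-- every element is conjugate to a normal form -/
theorem exists_nf [Finite F] (hsurj : ∀ x : F, ∃ c < 4, x = de w c) (g : symplecticGroup (Fin 2) F) :
    ∃ h : symplecticGroup (Fin 2) F, ∃ r < 4, ∃ k < 64,
      ((h⁻¹ * g * h : symplecticGroup (Fin 2) F) : Matrix (Fin 2 ⊕ Fin 2) (Fin 2 ⊕ Fin 2) F) = Dm w (nf r k) := by
  have h4 : ∀ x : F, x ^ 4 = x := fun x => by
    obtain ⟨c, hc, rfl⟩ := hsurj x
    have h3 : w ^ 4 = w := by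
      linear_combination (w ^ 2 + w + 2) * hw + (1 + w) * h2
    interval_cases c
    · show (0 : F) ^ 4 = 0
      ring
    · show (1 : F) ^ 4 = 1
      ring
    · exact h3
    · show (w + 1) ^ 4 = w + 1
      linear_combination h3 + (2 * w ^ 3 + 3 * w ^ 2 + 2 * w) * h2
  obtain ⟨h, B, r, hr, hB, e⟩ := exists_normal h2 h4 g
  obtain ⟨a, ha, ea⟩ := hsurj (B 0 0)
  obtain ⟨b, hb, eb⟩ := hsurj (B 0 1)
  obtain ⟨c, hc, ec⟩ := hsurj (B 1 1)
  have hk : a + 4 * b + 16 * c < 64 := by omega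
  refine ⟨h, r, hr, a + 4 * b + 16 * c, hk, ?_⟩
  have k0 : Nat.land (a + 4 * b + 16 * c) 3 = a := by rw [dg_zero]; omega
  have k1 : Nat.land (Nat.shiftRight (a + 4 * b + 16 * c) 2) 3 = b := by
    have : Nat.land (Nat.shiftRight (a + 4 * b + 16 * c) 2) 3 = dg (a + 4 * b + 16 * c) 1 := rfl
    rw [this, dg_eq]; (clear * - ha hb; solve | lia | omega)
  have k2 : Nat.land (Nat.shiftRight (a + 4 * b + 16 * c) 4) 3 = c := by
    have : Nat.land (Nat.shiftRight (a + 4 * b + 16 * c) 4) 3 = dg (a + 4 * b + 16 * c) 2 := rfl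
    rw [this, dg_eq]; omega
  unfold nf
  rw [k0, k1, k2, e, Dm_mul hw h2, Dm_lc w hr, Dm_uc w ha hb hc, ← ea, ← eb, ← ec, ← sym_eq hB, fromBlocks_multiply]
  simp only [Matrix.one_mul, Matrix.mul_one, Matrix.mul_zero, Matrix.zero_mul, add_zero, zero_add]
  rw [add_comm (Rr F r * B) 1]

theorem not_central {c d i j : ℕ} (hc : spc c = true) (hd : spc d = true) (a b : Fin 2 ⊕ Fin 2)
    (h : dg (mu c d) (4 * ix a + ix b) = i) (h' : dg (mu d c) (4 * ix a + ix b) = j)
    (hij : de w i ≠ de w j) : el hw h2 hc ∉ Subgroup.center (symplecticGroup (Fin 2) F) := by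
  intro hcen
  have h1 := Subgroup.mem_center_iff.1 hcen (el hw h2 hd)
  have h3 : Dm w d * Dm w c = Dm w c * Dm w d := congrArg Subtype.val h1
  rw [← Dm_mul hw h2, ← Dm_mul hw h2] at h3
  have h4 := congrFun (congrFun h3 a) b
  rw [Dm_apply, Dm_apply, h, h'] at h4
  exact hij h4.symm

end

section final

variable {F : Type*} [Field F] [Fintype F]

theorem hd : spc 1074856961 = true := by decide +kernel

/-- **`PSp₄(4)`**: two classes of elements of order 17 -/
theorem row3_psp_two_four (hF : Fintype.card F = 4) : H210.TC.Row3 (Cfsg.PSp 2 F) := by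
  have h2 := two_eq_zero hF
  obtain ⟨w, hw, hsurj⟩ := exists_w hF
  let x := el hw h2 hx
  let y := el hw h2 hy
  let π : symplecticGroup (Fin 2) F →* Cfsg.PSp 2 F := QuotientGroup.mk' _
  have hπ : Function.Surjective π := QuotientGroup.mk'_surjective _
  have hker : ∀ z : symplecticGroup (Fin 2) F, π z = 1 → z ∈ Subgroup.center (symplecticGroup (Fin 2) F) :=
    fun z hz => (QuotientGroup.eq_one_iff z).1 hz
  have hp : Nat.Prime 17 := by norm_num
  have hx17 : orderOf (π x) = 17 := by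
    refine orderOf_eq_prime (hp := ⟨hp⟩) ?_ ?_
    · rw [← map_pow]
      have : x ^ 17 = 1 := Subtype.ext (pow_of_p17 hw h2 px)
      rw [this, map_one]
    · intro h
      exact not_central (i := 0) (j := 1) hw h2 hx hd (Sum.inr 0) (Sum.inl 1) (by decide +kernel) (by decide +kernel)
        zero_ne_one (hker _ h)
  have hy17 : orderOf (π y) = 17 := by
    refine orderOf_eq_prime (hp := ⟨hp⟩) ?_ ?_
    · rw [← map_pow]
      have : y ^ 17 = 1 := Subtype.ext (pow_of_p17 hw h2 py)
      rw [this, map_one]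
    · intro h
      exact not_central (i := 1) (j := 0) hw h2 hy hd (Sum.inr 0) (Sum.inl 0) (by decide +kernel) (by decide +kernel)
        one_ne_zero (hker _ h)
  refine ⟨π x, π y, by rw [hx17]; exact hp, by rw [hx17]; decide, by rw [hy17]; exact hp, by rw [hy17]; decide,
    fun g hg => ?_, fun g => ?_⟩
  · obtain ⟨g, rfl⟩ := hπ g
    have hg1 : g ≠ 1 := by rintro rfl; exact hg ((map_one π :))
    obtain ⟨h, r, hr, k, hk, e⟩ := exists_nf hw h2 hsurj g
    have hne : nf r k ≠ ic := by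
      intro h0
      rw [h0, Dm_ic] at e
      have h1 : h⁻¹ * g * h = 1 := Subtype.ext e
      apply hg1
      calc g = h * (h⁻¹ * g * h) * h⁻¹ := by group
        _ = 1 := by rw [h1]; group
    obtain ⟨u, v, e1⟩ := tabA hw h2 hr hk hne
    have h3 : h⁻¹ * g * h = u * x * u⁻¹ * (v * y * v⁻¹) := Subtype.ext (e.trans e1)
    refine ⟨π (h * u), π (h * v), ?_⟩
    rw [← map_inv, ← map_inv, ← map_mul, ← map_mul, ← map_mul, ← map_mul, ← map_mul]
    congr 1
    calc g = h * (h⁻¹ * g * h) * h⁻¹ := by group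
      _ = _ := by rw [h3]; group
  · obtain ⟨g, rfl⟩ := hπ g
    obtain ⟨h, r, hr, k, hk, e⟩ := exists_nf hw h2 hsurj g
    obtain ⟨u, v, z, e1⟩ := tabB hw h2 hr hk
    have h3 : h⁻¹ * g * h = u * x * u⁻¹ * (v * x * v⁻¹) * (z * x * z⁻¹) := Subtype.ext (e.trans e1)
    refine ⟨π (h * u), π (h * v), π (h * z), ?_⟩
    rw [← map_inv, ← map_inv, ← map_inv, ← map_mul, ← map_mul, ← map_mul, ← map_mul, ← map_mul, ← map_mul, ← map_mul,
      ← map_mul]
    congr 1
    calc g = h * (h⁻¹ * g * h) * h⁻¹ := by group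
      _ = _ := by rw [h3]; group

end final

end Cfsg.Agent.H767.S44
end

-- part: H812/TC/EvenRow
section
/-!
# S2464, row `PSp_4(q)`, `q ≥ 4` even (helper812)
-/

set_option autoImplicit false

namespace Cfsg.Agent.H812.TC.EvenRow

/-- `2^k - 1` has a prime divisor `≥ 5` for `k ≥ 3` -/
theorem exists_prime_five {k : ℕ} (hk : 3 ≤ k) : ∃ r : ℕ, r.Prime ∧ 5 ≤ r ∧ r ∣ 2 ^ k - 1 := by
  by_contra hcon
  push Not at hcon
  have h8 : 2 ^ k = 8 * 2 ^ (k - 3) := by
    rw [show (8 : ℕ) = 2 ^ 3 by norm_num, ← pow_add]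
    congr 1
    omega
  have hpos : 1 ≤ 2 ^ (k - 3) := Nat.one_le_two_pow
  have h3 : ∀ r : ℕ, r.Prime → r ∣ 2 ^ k - 1 → r = 3 := fun r hr hd => by
    have h5 : r < 5 := by
      by_contra h
      exact hcon r hr (by omega) hd
    have h2 := hr.two_le
    have h6 : r = 2 ∨ r = 3 ∨ r = 4 := by omega
    rcases h6 with rfl | rfl | rfl
    · omega
    · rfl
    · exact absurd hr (by decide)
  have h4 : 2 ^ k - 1 = 3 ^ (2 ^ k - 1).primeFactorsList.length :=
    Nat.eq_prime_pow_of_unique_prime_dvd (by omega) (fun {d} hd hdd => h3 d hd hdd)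
  have h5 : ∀ n : ℕ, 3 ^ n % 8 = 1 ∨ 3 ^ n % 8 = 3 := by
    intro n
    induction n with
    | zero => left; norm_num
    | succ n ih =>
      rw [pow_succ]
      (clear * - ih; solve | lia | omega)
  have h6 := h5 (2 ^ k - 1).primeFactorsList.length
  rw [← h4] at h6
  omega

variable {F : Type} [Field F] [Fintype F]

theorem row3_even (h3 : 3 ≤ Fintype.card F) (he : Fintype.card F % 2 = 0) : H210.TC.Row3 (Cfsg.PSp 2 F) := by
  obtain ⟨p, hp⟩ := CharP.exists F
  have hpp : Fact p.Prime := ⟨CharP.char_is_prime F p⟩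
  obtain ⟨k, -, hF⟩ := FiniteField.card F p
  have h2 : p = 2 := by
    have h1 : 2 ∣ p ^ (k : ℕ) := by rw [← hF]; exact Nat.dvd_of_mod_eq_zero he
    exact ((Nat.prime_dvd_prime_iff_eq Nat.prime_two hpp.out).1 (Nat.prime_two.dvd_of_dvd_pow h1)).symm
  subst h2
  rcases Nat.lt_or_ge (k : ℕ) 3 with hk | hk
  · have h4 : (k : ℕ) = 1 ∨ (k : ℕ) = 2 := by have := k.pos; omega
    rcases h4 with h4 | h4
    · rw [hF, h4] at h3
      norm_num at h3
    · exact H767.S44.row3_psp_two_four (by rw [hF, h4]; norm_num)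
  · obtain ⟨r, hr, h5, hd⟩ := exists_prime_five hk
    exact SpSplit.row3_split hr h5 (by rw [hF]; exact hd)

end Cfsg.Agent.H812.TC.EvenRow
end

-- part: H3/TC/U39
section
/-!
# `PSU_3(3)` and `PSU_3(9)`: products of two conjugates of an element of order `7`, `73` (helper3)
-/

set_option autoImplicit false

namespace Cfsg.Agent.H3.TC

open Matrix Cfsg

/-! ### the checks on codes -/

section codes

variable {K : Type} [CommRing K] [DecidableEq K] (of : ℕ → K) (s : K → K) (ad mu : ℕ → ℕ → ℕ) (ng sN : ℕ → ℕ) (q : ℕ)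

private def cMp (A : M3 ℕ) : M3 K := ⟨of A.a, of A.b, of A.c, of A.d, of A.e, of A.f, of A.g, of A.h, of A.i⟩

private def cMul (A B : M3 ℕ) : M3 ℕ :=
  ⟨ad (ad (mu A.a B.a) (mu A.b B.d)) (mu A.c B.g),
   ad (ad (mu A.a B.b) (mu A.b B.e)) (mu A.c B.h),
   ad (ad (mu A.a B.c) (mu A.b B.f)) (mu A.c B.i),
   ad (ad (mu A.d B.a) (mu A.e B.d)) (mu A.f B.g),
   ad (ad (mu A.d B.b) (mu A.e B.e)) (mu A.f B.h),
   ad (ad (mu A.d B.c) (mu A.e B.f)) (mu A.f B.i),
   ad (ad (mu A.g B.a) (mu A.h B.d)) (mu A.i B.g),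
   ad (ad (mu A.g B.b) (mu A.h B.e)) (mu A.i B.h),
   ad (ad (mu A.g B.c) (mu A.h B.f)) (mu A.i B.i)⟩

private def cSt (A : M3 ℕ) : M3 ℕ := ⟨sN A.i, sN A.f, sN A.c, sN A.h, sN A.e, sN A.b, sN A.g, sN A.d, sN A.a⟩

private def cDet (A : M3 ℕ) : ℕ :=
  ad (ad (mu A.a (ad (mu A.e A.i) (ng (mu A.f A.h)))) (ng (mu A.b (ad (mu A.d A.i) (ng (mu A.f A.g))))))
    (mu A.c (ad (mu A.d A.h) (ng (mu A.e A.g))))

private def cTr (A : M3 ℕ) : ℕ := ad (ad A.a A.e) A.i

private def cKr (A : M3 ℕ) : ℕ :=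
  ad (mu A.d (ad (ad (mu A.g A.a) (mu A.h A.d)) (mu A.i A.g))) (ng (mu A.g (ad (ad (mu A.d A.a) (mu A.e A.d)) (mu A.f A.g))))

private def cEq (A B : M3 ℕ) : Bool :=
  Nat.beq A.a B.a && (Nat.beq A.b B.b && (Nat.beq A.c B.c && (Nat.beq A.d B.d && (Nat.beq A.e B.e && (Nat.beq A.f B.f &&
    (Nat.beq A.g B.g && (Nat.beq A.h B.h && Nat.beq A.i B.i)))))))

private def cNz (x : ℕ) : Bool := Nat.blt x q && Nat.blt 0 x

private def cOk (t : ℕ) (A : M3 ℕ) : Bool :=
  cEq (cMul ad mu (cSt sN A) A) ⟨1, 0, 0, 0, 1, 0, 0, 0, 1⟩ && (Nat.beq (cDet ad mu ng A) 1 && (Nat.beq (cTr ad A) t &&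
    cNz q (cKr ad mu ng A)))

private def cMk (l : List ℕ) : M3 ℕ :=
  ⟨l.getD 0 0, l.getD 1 0, l.getD 2 0, l.getD 3 0, l.getD 4 0, l.getD 5 0, l.getD 6 0, l.getD 7 0, l.getD 8 0⟩

private def cChk1 (t₀ : ℕ) (X : M3 ℕ) (l : List ℕ) : Bool :=
  Nat.beq l.length 10 && (cOk ad mu ng sN q t₀ (cMk l.tail) && (Nat.beq (cTr ad (cMul ad mu X (cMk l.tail))) (l.getD 0 0) &&
    cNz q (cKr ad mu ng (cMul ad mu X (cMk l.tail)))))

private def cNf (c β b' : ℕ) : M3 ℕ := ⟨0, 0, b', 0, c, 0, β, 0, ad c (mu (sN c) (sN c))⟩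

private def cChk2 (t₀ : ℕ) (l : List ℕ) : Bool :=
  Nat.beq l.length 12 && (Nat.beq (mu (l.getD 0 0) (l.getD 1 0)) (ng (sN (l.getD 1 0))) &&
    (Nat.beq (mu (sN (l.getD 1 0)) (l.getD 2 0)) 1 && (cOk ad mu ng sN q t₀ (cMk (l.drop 3)) &&
    (cOk ad mu ng sN q t₀ (cMul ad mu (cSt sN (cMk (l.drop 3))) (cNf ad mu sN (l.getD 0 0) (l.getD 1 0) (l.getD 2 0))) &&
    cEq (cMul ad mu (cMk (l.drop 3)) (cMul ad mu (cSt sN (cMk (l.drop 3))) (cNf ad mu sN (l.getD 0 0) (l.getD 1 0) (l.getD 2 0))))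
      (cNf ad mu sN (l.getD 0 0) (l.getD 1 0) (l.getD 2 0))))))

private def cPw (A : M3 ℕ) (n : ℕ) : M3 ℕ := Nat.rec ⟨1, 0, 0, 0, 1, 0, 0, 0, 1⟩ (fun _ r => cMul ad mu r A) n

private def CH : Prop := (∀ a b, of (ad a b) = of a + of b) ∧ (∀ a b, of (mu a b) = of a * of b) ∧ (∀ a, of (ng a) = -of a) ∧
  (∀ a, of (sN a) = s (of a)) ∧ of 0 = 0 ∧ of 1 = 1 ∧ ∀ a < q, 0 < a → of a ≠ 0

variable {of s ad mu ng sN q}

private theorem cEq_eq {A B : M3 ℕ} (h : cEq A B = true) : A = B := by
  obtain ⟨a, b, c, d, e, f, g, h', i⟩ := A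
  obtain ⟨a', b', c', d', e', f', g', h'', i'⟩ := B
  simp only [cEq, Bool.and_eq_true, Nat.beq_eq] at h
  obtain ⟨rfl, rfl, rfl, rfl, rfl, rfl, rfl, rfl, rfl⟩ := h
  rfl

private theorem cMul_eq (H : CH of s ad mu ng sN q) (A B : M3 ℕ) : cMp of (cMul ad mu A B) = (cMp of A).mul (cMp of B) := by
  simp only [cMp, cMul, H.1, H.2.1]
  rfl

private theorem cSt_eq (H : CH of s ad mu ng sN q) (A : M3 ℕ) : cMp of (cSt sN A) = (cMp of A).st s := by
  simp only [cMp, cSt, H.2.2.2.1]
  rfl

private theorem cOne (H : CH of s ad mu ng sN q) : cMp of ⟨1, 0, 0, 0, 1, 0, 0, 0, 1⟩ = M3.one := by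
  simp only [cMp, H.2.2.2.2.1, H.2.2.2.2.2.1]
  rfl

private theorem cTr_eq (H : CH of s ad mu ng sN q) (A : M3 ℕ) : (cMp of A).tr = of (cTr ad A) := by
  simp only [cTr, H.1]
  rfl

private theorem cKr_ne (H : CH of s ad mu ng sN q) {A : M3 ℕ} (h : cNz q (cKr ad mu ng A) = true) : (cMp of A).kr ≠ 0 := by
  have e : (cMp of A).kr = of (cKr ad mu ng A) := by
    simp only [cKr, H.1, H.2.1, H.2.2.1, ← sub_eq_add_neg]
    rfl
  rw [cNz, Bool.and_eq_true, Nat.blt_eq, Nat.blt_eq] at h
  rw [e]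
  exact H.2.2.2.2.2.2 _ h.1 h.2

private theorem cOk_ok (H : CH of s ad mu ng sN q) {t : ℕ} {A : M3 ℕ} (h : cOk ad mu ng sN q t A = true) :
    M3.Ok s (of t) (cMp of A) := by
  rw [cOk, Bool.and_eq_true, Bool.and_eq_true, Bool.and_eq_true, Nat.beq_eq, Nat.beq_eq] at h
  have e : (cMp of A).det = of (cDet ad mu ng A) := by
    simp only [cDet, H.1, H.2.1, H.2.2.1, ← sub_eq_add_neg]
    rfl
  refine ⟨?_, ?_, ?_, cKr_ne H h.2.2.2⟩
  · rw [← cSt_eq H, ← cMul_eq H, cEq_eq h.1, cOne H]
  · rw [e, h.2.1, H.2.2.2.2.2.1]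
  · rw [cTr_eq H, h.2.2.1]

private theorem chk1_of (H : CH of s ad mu ng sN q) {t₀ : ℕ} {X : M3 ℕ} {T : List (List ℕ)}
    (h : T.all (cChk1 ad mu ng sN q t₀ X) = true) : ∀ l ∈ T, chk1 of s (of t₀) (cMp of X) l = true := by
  intro l hl
  have h1 := List.all_eq_true.1 h l hl
  rw [cChk1, Bool.and_eq_true, Bool.and_eq_true, Bool.and_eq_true, Nat.beq_eq, Nat.beq_eq] at h1
  obtain ⟨h0, h2, h3, h4⟩ := h1
  match l, h0 with
  | [t, a, b, c, d, e, f, g, h', i], _ =>
    show (decide (M3.Ok s (of t₀) (cMp of (cMk [a, b, c, d, e, f, g, h', i]))) &&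
      (decide (((cMp of X).mul (cMp of (cMk [a, b, c, d, e, f, g, h', i]))).tr = of t) &&
        decide (((cMp of X).mul (cMp of (cMk [a, b, c, d, e, f, g, h', i]))).kr ≠ 0))) = true
    rw [Bool.and_eq_true, Bool.and_eq_true, decide_eq_true_eq, decide_eq_true_eq, decide_eq_true_eq, ← cMul_eq H, cTr_eq H]
    exact ⟨cOk_ok H h2, congrArg of h3, cKr_ne H h4⟩

private theorem chk2_of (H : CH of s ad mu ng sN q) {t₀ : ℕ} {T : List (List ℕ)}
    (h : T.all (cChk2 ad mu ng sN q t₀) = true) : ∀ l ∈ T, chk2 of s (of t₀) l = true := by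
  intro l hl
  have h1 := List.all_eq_true.1 h l hl
  rw [cChk2, Bool.and_eq_true, Bool.and_eq_true, Bool.and_eq_true, Bool.and_eq_true, Bool.and_eq_true, Nat.beq_eq,
    Nat.beq_eq, Nat.beq_eq] at h1
  obtain ⟨h0, h2, h3, h4, h5, h6⟩ := h1
  match l, h0 with
  | [x, y, z, a, b, c, d, e, f, g, h', i], _ =>
    have en : nf9 s (of x) (of y) (of z) = cMp of (cNf ad mu sN x y z) := by
      simp only [cMp, cNf, H.1, H.2.1, H.2.2.2.1, H.2.2.2.2.1]
      rfl
    show (decide (of x * of y = -s (of y)) && (decide (s (of y) * of z = 1) &&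
      (decide (M3.Ok s (of t₀) (cMp of (cMk [a, b, c, d, e, f, g, h', i]))) &&
      (decide (M3.Ok s (of t₀) (((cMp of (cMk [a, b, c, d, e, f, g, h', i])).st s).mul (nf9 s (of x) (of y) (of z)))) &&
      decide ((cMp of (cMk [a, b, c, d, e, f, g, h', i])).mul (((cMp of (cMk [a, b, c, d, e, f, g, h', i])).st s).mul
        (nf9 s (of x) (of y) (of z))) = nf9 s (of x) (of y) (of z)))))) = true
    rw [Bool.and_eq_true, Bool.and_eq_true, Bool.and_eq_true, Bool.and_eq_true, decide_eq_true_eq, decide_eq_true_eq,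
      decide_eq_true_eq, decide_eq_true_eq, decide_eq_true_eq, en, ← cSt_eq H, ← cMul_eq H, ← cMul_eq H, ← H.2.2.2.1,
      ← H.2.1, ← H.2.1, ← H.2.2.1]
    exact ⟨congrArg of h2, (congrArg of h3).trans H.2.2.2.2.2.1, cOk_ok H h4, cOk_ok H h5, congrArg (cMp of) (cEq_eq h6)⟩

private theorem cPw_eq (H : CH of s ad mu ng sN q) (A : M3 ℕ) (n : ℕ) : (cMp of A).npw n = cMp of (cPw ad mu A n) := by
  induction n with
  | zero => exact (cOne H).symm
  | succ n ih => exact (congrArg (fun r => M3.mul r (cMp of A)) ih).trans (cMul_eq H _ A).symm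

private theorem npw_of (H : CH of s ad mu ng sN q) {A : M3 ℕ} {n : ℕ}
    (h : cEq (cPw ad mu A n) ⟨1, 0, 0, 0, 1, 0, 0, 0, 1⟩ = true) : (cMp of A).npw n = M3.one := by
  rw [cPw_eq H, cEq_eq h, cOne H]

private theorem any_of {F : Type} [Field F] [Fintype F] [DecidableEq F] {of : ℕ → F} {T : List (List ℕ)}
    (hs : ∀ t : F, ∃ n < q, t = of n)
    (h : ((List.range q).all fun n => T.any fun l => Nat.beq (l.headD q) n) = true) (t : F) : T.any (hd1 of t) = true := by
  obtain ⟨n, hn, rfl⟩ := hs t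
  obtain ⟨l, hl, h1⟩ := List.any_eq_true.1 (List.all_eq_true.1 h n (List.mem_range.2 hn))
  refine List.any_eq_true.2 ⟨l, hl, ?_⟩
  cases l with
  | nil => exact absurd (Nat.eq_of_beq_eq_true h1) (Nat.ne_of_gt hn)
  | cons a l => exact decide_eq_true (congrArg of (Nat.eq_of_beq_eq_true h1))

end codes

private def fzn (x : ℕ) (k : ℕ → ℕ) : ℕ := Nat.rec (k 0) (fun n _ => k (Nat.succ n)) x

private theorem fzn_eq (x : ℕ) (k : ℕ → ℕ) : fzn x k = k x := by cases x <;> rfl

/-- the field with nine elements -/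
abbrev K9 : Type := QuadraticAlgebra (ZMod 3) 2 0

namespace K9

instance hab : Fact (∀ r : ZMod 3, r ^ 2 ≠ 2 + 0 * r) := ⟨by decide⟩

instance fin : Fintype K9 := Fintype.ofEquiv (ZMod 3 × ZMod 3) (QuadraticAlgebra.equivProd 2 0).symm

def of (n : ℕ) : K9 := ⟨(Fin.ofNat 3 n : Fin 3), (Fin.ofNat 3 (n / 3) : Fin 3)⟩

def s (x : K9) : K9 := ⟨x.re, -x.im⟩

theorem card : Fintype.card K9 = 3 ^ 2 := by
  rw [Fintype.card_congr (QuadraticAlgebra.equivProd (2 : ZMod 3) 0), Fintype.card_prod, ZMod.card]; rfl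

theorem s_eq : ∀ x : K9, s x = x ^ 3 := by decide +kernel

end K9

def X3 : List ℕ := [3, 8, 6, 0, 2, 8, 1, 5, 5]
def t3 : ℕ := 7
def tabA3 : List (List ℕ) := [[0, 1, 4, 8, 6, 8, 7, 1, 1, 1],
  [1, 2, 2, 5, 6, 7, 7, 2, 5, 1],
  [2, 5, 2, 3, 1, 2, 6, 2, 0, 3],
  [3, 6, 2, 6, 4, 6, 7, 5, 0, 4],
  [4, 3, 2, 5, 7, 3, 8, 7, 6, 1],
  [5, 3, 6, 4, 2, 0, 4, 3, 3, 4],
  [6, 8, 8, 3, 0, 6, 3, 5, 5, 5],
  [7, 5, 2, 7, 7, 4, 6, 1, 2, 1],
  [8, 8, 5, 1, 4, 4, 1, 3, 7, 7]]
def tabB3 : List (List ℕ) := [[1, 3, 3, 1, 5, 5, 7, 7, 1, 2, 3, 2],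
  [2, 1, 1, 5, 5, 1, 6, 0, 4, 3, 1, 5],
  [3, 4, 8, 2, 4, 1, 8, 7, 2, 7, 3, 1],
  [6, 5, 7, 1, 8, 5, 1, 6, 0, 7, 0, 0]]

theorem chkA3 : ∀ l ∈ tabA3, chk1 K9.of K9.s (K9.of t3) (mk9 K9.of X3) l = true := by decide +kernel
theorem chkB3 : ∀ l ∈ tabB3, chk2 K9.of K9.s (K9.of t3) l = true := by decide +kernel
theorem okX3 : M3.Ok K9.s (K9.of t3) (mk9 K9.of X3) := by decide +kernel

theorem pp_K9 : H494.TC.PP (PSU 3 K9 3) :=
  pp_of_tab K9.card (by norm_num) (k := 1) (by norm_num) K9.s K9.s_eq K9.of okX3 chkA3 chkB3 (by decide +kernel)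
    (by decide +kernel) (fun σ hσ => exists_bc K9.card (by decide +kernel) σ hσ)
    (fun σ hσ g hg => iso_odd K9.card (by decide +kernel) σ hσ g hg) (r := 7) (by norm_num) (by norm_num)
    (by decide +kernel) (by decide +kernel)

theorem pp_psu_three_three {F : Type*} [Field F] [Fintype F] (hF : Fintype.card F = 9) : H494.TC.PP (PSU 3 F 3) :=
  H494.TC.PP.of_equiv (LieClassical.FieldTransfer.psuCongr 3 3 (FiniteField.ringEquivOfCardEq (K := F) (K' := K9)
    (by rw [K9.card, hF]; norm_num))) pp_K9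

/-- the field with 81 elements -/
abbrev K81 : Type := QuadraticAlgebra K9 (K9.of 4) 0

namespace K81

instance hab : Fact (∀ r : K9, r ^ 2 ≠ K9.of 4 + 0 * r) := ⟨by decide +kernel⟩

instance fin : Fintype K81 := Fintype.ofEquiv (K9 × K9) (QuadraticAlgebra.equivProd (K9.of 4) 0).symm

def of (n : ℕ) : K81 := ⟨K9.of n, K9.of (n / 9)⟩

def s (x : K81) : K81 := ⟨x.re, -x.im⟩

theorem card : Fintype.card K81 = 9 ^ 2 := by
  rw [Fintype.card_congr (QuadraticAlgebra.equivProd (K9.of 4) 0), Fintype.card_prod, K9.card]; rfl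

private def pk (x y z w : ℕ) : ℕ :=
  Nat.add (Nat.add (Nat.mod x 3) (Nat.mul 3 (Nat.mod y 3))) (Nat.add (Nat.mul 9 (Nat.mod z 3)) (Nat.mul 27 (Nat.mod w 3)))

private theorem of_eq (n : ℕ) : of n = ⟨⟨(n : ZMod 3), (n / 3 : ℕ)⟩, ⟨(n / 9 : ℕ), (n / 27 : ℕ)⟩⟩ := by
  rw [show n / 27 = n / 9 / 3 by (solve | lia | omega)]
  rfl

private theorem of_pk (x y z w : ℕ) : of (pk x y z w) = ⟨⟨(x : ZMod 3), (y : ZMod 3)⟩, ⟨(z : ZMod 3), (w : ZMod 3)⟩⟩ := by
  have e : pk x y z w = x % 3 + 3 * (y % 3) + (9 * (z % 3) + 27 * (w % 3)) := rfl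
  have k : ∀ a b : ℕ, a % 3 = b % 3 → (a : ZMod 3) = b := fun a b h => (ZMod.natCast_eq_natCast_iff' a b 3).2 h
  rw [of_eq, k (pk x y z w) x (by (clear * - e; solve | lia | omega)), k (pk x y z w / 3) y (by (solve | lia | omega)), k (pk x y z w / 9) z (by (solve | lia | omega)),
    k (pk x y z w / 27) w (by (solve | lia | omega))]

private def ad0 (a b : ℕ) : ℕ := pk (Nat.add a b) (Nat.add (Nat.div a 3) (Nat.div b 3)) (Nat.add (Nat.div a 9) (Nat.div b 9))
  (Nat.add (Nat.div a 27) (Nat.div b 27))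

private def mu1 (a0 a1 a2 a3 b0 b1 b2 b3 : ℕ) : ℕ :=
  pk (Nat.add (Nat.add (Nat.mul a0 b0) (Nat.mul a2 b2)) (Nat.mul 2 (Nat.add (Nat.add (Nat.mul a1 b1) (Nat.mul a3 b3))
      (Nat.add (Nat.mul a2 b3) (Nat.mul a3 b2)))))
    (Nat.add (Nat.add (Nat.add (Nat.mul a0 b1) (Nat.mul a1 b0)) (Nat.add (Nat.mul a2 b2) (Nat.mul 2 (Nat.mul a3 b3))))
      (Nat.add (Nat.mul a2 b3) (Nat.mul a3 b2)))
    (Nat.add (Nat.add (Nat.mul a0 b2) (Nat.mul a2 b0)) (Nat.mul 2 (Nat.add (Nat.mul a1 b3) (Nat.mul a3 b1))))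
    (Nat.add (Nat.add (Nat.mul a0 b3) (Nat.mul a1 b2)) (Nat.add (Nat.mul a2 b1) (Nat.mul a3 b0)))

private def mu0 (a b : ℕ) : ℕ :=
  mu1 a (Nat.div a 3) (Nat.div a 9) (Nat.div a 27) b (Nat.div b 3) (Nat.div b 9) (Nat.div b 27)

private def adN (a b : ℕ) : ℕ := fzn a fun a => fzn b fun b => ad0 a b
private def muN (a b : ℕ) : ℕ := fzn a fun a => fzn b fun b => mu0 a b
private def ngN (a : ℕ) : ℕ := fzn a fun a =>
  pk (Nat.mul 2 a) (Nat.mul 2 (Nat.div a 3)) (Nat.mul 2 (Nat.div a 9)) (Nat.mul 2 (Nat.div a 27))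
private def sN (a : ℕ) : ℕ := fzn a fun a => pk a (Nat.div a 3) (Nat.mul 2 (Nat.div a 9)) (Nat.mul 2 (Nat.div a 27))

private theorem ch : CH of s adN muN ngN sN 81 := by
  have h2 : ∀ x : ZMod 3, 2 * x = -x := by decide
  have h4 : K9.of 4 = ⟨1, 1⟩ := by decide
  refine ⟨fun a b => ?_, fun a b => ?_, fun a => ?_, fun a => ?_, by decide +kernel, by decide +kernel, by decide +kernel⟩
  · rw [adN, fzn_eq, fzn_eq, ad0, of_pk, of_eq, of_eq]
    simp only [Nat.add_eq, Nat.cast_add]
    rfl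
  · rw [muN, fzn_eq, fzn_eq, mu0, mu1, of_pk, of_eq, of_eq]
    simp only [Nat.add_eq, Nat.mul_eq, Nat.cast_add, Nat.cast_mul, Nat.cast_ofNat]
    show _ = (⟨⟨(a : ZMod 3), (Nat.div a 3 : ℕ)⟩, ⟨(Nat.div a 9 : ℕ), (Nat.div a 27 : ℕ)⟩⟩ : K81) *
      ⟨⟨(b : ZMod 3), (Nat.div b 3 : ℕ)⟩, ⟨(Nat.div b 9 : ℕ), (Nat.div b 27 : ℕ)⟩⟩
    generalize (a : ZMod 3) = a0, ((Nat.div a 3 : ℕ) : ZMod 3) = a1, ((Nat.div a 9 : ℕ) : ZMod 3) = a2,
      ((Nat.div a 27 : ℕ) : ZMod 3) = a3, (b : ZMod 3) = b0, ((Nat.div b 3 : ℕ) : ZMod 3) = b1,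
      ((Nat.div b 9 : ℕ) : ZMod 3) = b2, ((Nat.div b 27 : ℕ) : ZMod 3) = b3
    refine QuadraticAlgebra.ext (QuadraticAlgebra.ext ?_ ?_) (QuadraticAlgebra.ext ?_ ?_) <;>
      simp only [QuadraticAlgebra.re_mul, QuadraticAlgebra.im_mul, QuadraticAlgebra.re_add, QuadraticAlgebra.im_add, h4,
        zero_mul, add_zero] <;> ring
  · rw [ngN, fzn_eq, of_pk, of_eq]
    simp only [Nat.mul_eq, Nat.cast_mul, Nat.cast_ofNat, h2]
    rfl
  · rw [sN, fzn_eq, of_pk, of_eq]
    simp only [Nat.mul_eq, Nat.cast_mul, Nat.cast_ofNat, h2]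
    rfl

private theorem of_surj (t : K81) : ∃ n < 81, t = of n := by
  obtain ⟨⟨a, b⟩, ⟨c, d⟩⟩ := t
  refine ⟨pk a.val b.val c.val d.val, ?_, ?_⟩
  · show a.val % 3 + 3 * (b.val % 3) + (9 * (c.val % 3) + 27 * (d.val % 3)) < 81
    (solve | lia | omega)
  · rw [of_pk, ZMod.natCast_zmod_val, ZMod.natCast_zmod_val, ZMod.natCast_zmod_val, ZMod.natCast_zmod_val]

theorem s_eq : ∀ x : K81, s x = x ^ 9 := by
  intro x
  obtain ⟨n, hn, rfl⟩ := of_surj x
  have h : ∀ n < 81, Nat.beq (sN n) (muN (muN (muN (muN n n) (muN n n)) (muN (muN n n) (muN n n))) n) = true := by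
    decide +kernel
  rw [← ch.2.2.2.1, Nat.eq_of_beq_eq_true (h n hn)]
  simp only [ch.2.1]
  ring

end K81

def X9 : List ℕ := [22, 56, 38, 13, 67, 59, 14, 22, 69]
def t9 : ℕ := 41
def tabA9 : List (List ℕ) := [[0, 66, 60, 27, 12, 37, 11, 8, 9, 46],
  [1, 24, 78, 75, 80, 49, 56, 20, 18, 4],
  [2, 33, 48, 65, 35, 66, 50, 3, 64, 32],
  [3, 39, 71, 55, 45, 6, 26, 24, 78, 5],
  [4, 79, 20, 33, 61, 71, 68, 32, 72, 11],
  [5, 36, 50, 56, 73, 27, 44, 17, 54, 59],
  [6, 59, 29, 58, 73, 35, 12, 13, 0, 40],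
  [7, 60, 4, 30, 76, 58, 0, 6, 63, 13],
  [8, 66, 45, 49, 16, 41, 56, 58, 52, 51],
  [9, 58, 63, 34, 67, 19, 2, 50, 75, 72],
  [10, 76, 27, 40, 33, 26, 44, 18, 34, 59],
  [11, 80, 10, 28, 61, 20, 37, 16, 41, 61],
  [12, 52, 31, 55, 42, 11, 68, 25, 26, 17],
  [13, 30, 41, 19, 44, 17, 33, 20, 48, 3],
  [14, 23, 10, 10, 48, 19, 51, 48, 57, 29],
  [15, 27, 53, 32, 44, 39, 60, 36, 35, 56],
  [16, 4, 37, 44, 33, 52, 39, 35, 0, 21],
  [17, 71, 48, 8, 14, 59, 60, 16, 23, 4],
  [18, 34, 29, 59, 13, 6, 63, 35, 37, 10],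
  [19, 26, 12, 13, 69, 1, 28, 25, 23, 53],
  [20, 53, 68, 42, 20, 2, 13, 27, 17, 25],
  [21, 80, 16, 54, 62, 58, 12, 27, 55, 23],
  [22, 77, 44, 68, 30, 54, 14, 53, 68, 18],
  [23, 18, 0, 3, 77, 2, 14, 18, 31, 48],
  [24, 57, 17, 43, 38, 7, 7, 65, 73, 67],
  [25, 31, 54, 68, 7, 75, 25, 8, 52, 52],
  [26, 1, 55, 59, 72, 74, 72, 5, 5, 77],
  [27, 1, 25, 20, 33, 67, 21, 48, 60, 54],
  [28, 36, 7, 13, 73, 40, 1, 13, 35, 73],
  [29, 66, 56, 42, 79, 2, 31, 5, 0, 54],
  [30, 8, 14, 5, 54, 22, 57, 38, 74, 50],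
  [31, 24, 64, 57, 21, 61, 13, 54, 25, 73],
  [32, 4, 38, 44, 4, 36, 46, 31, 75, 1],
  [33, 8, 46, 64, 51, 75, 40, 44, 13, 75],
  [34, 13, 70, 73, 26, 24, 25, 74, 5, 40],
  [35, 67, 3, 64, 65, 5, 28, 72, 76, 62],
  [36, 63, 72, 46, 53, 40, 18, 38, 32, 46],
  [37, 29, 9, 54, 78, 44, 71, 78, 63, 61],
  [38, 26, 19, 36, 43, 24, 16, 31, 75, 27],
  [39, 62, 79, 39, 60, 18, 18, 71, 1, 78],
  [40, 74, 66, 24, 69, 22, 58, 52, 65, 56],
  [41, 26, 46, 18, 33, 9, 48, 14, 24, 42],
  [42, 36, 3, 33, 58, 76, 64, 60, 15, 37],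
  [43, 43, 58, 21, 54, 49, 50, 40, 20, 66],
  [44, 45, 55, 65, 76, 49, 18, 15, 3, 55],
  [45, 74, 31, 23, 64, 12, 25, 32, 74, 63],
  [46, 26, 52, 75, 21, 45, 50, 23, 49, 6],
  [47, 58, 22, 65, 72, 17, 53, 59, 34, 59],
  [48, 62, 68, 10, 69, 46, 32, 49, 58, 53],
  [49, 54, 73, 45, 38, 33, 65, 48, 5, 44],
  [50, 73, 10, 6, 24, 37, 50, 22, 80, 39],
  [51, 56, 24, 28, 51, 73, 63, 61, 27, 23],
  [52, 80, 47, 63, 64, 70, 68, 1, 76, 11],
  [53, 77, 5, 5, 64, 22, 23, 3, 15, 62],
  [54, 4, 57, 17, 78, 44, 3, 37, 56, 5],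
  [55, 67, 22, 26, 64, 41, 63, 53, 49, 53],
  [56, 65, 78, 76, 5, 25, 40, 27, 38, 71],
  [57, 63, 14, 23, 7, 27, 79, 35, 30, 32],
  [58, 64, 30, 3, 5, 57, 73, 71, 79, 1],
  [59, 46, 40, 62, 5, 67, 50, 43, 28, 36],
  [60, 22, 32, 41, 33, 48, 20, 40, 3, 7],
  [61, 10, 59, 11, 73, 26, 59, 49, 6, 44],
  [62, 2, 61, 41, 14, 15, 7, 46, 73, 33],
  [63, 56, 78, 68, 42, 28, 63, 68, 21, 41],
  [64, 70, 66, 67, 19, 29, 48, 34, 22, 35],
  [65, 47, 29, 55, 47, 57, 74, 36, 18, 45],
  [66, 40, 14, 21, 74, 28, 61, 28, 46, 54],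
  [67, 29, 24, 71, 68, 21, 76, 53, 1, 18],
  [68, 19, 25, 33, 7, 37, 47, 3, 23, 12],
  [69, 63, 72, 46, 67, 78, 12, 37, 25, 17],
  [70, 33, 2, 3, 68, 54, 24, 28, 24, 44],
  [71, 10, 34, 69, 57, 6, 6, 78, 48, 34],
  [72, 75, 6, 64, 29, 75, 79, 44, 20, 8],
  [73, 1, 20, 69, 70, 67, 11, 10, 72, 54],
  [74, 14, 65, 65, 47, 30, 7, 59, 75, 6],
  [75, 69, 20, 1, 62, 66, 13, 65, 66, 23],
  [76, 37, 52, 16, 37, 0, 76, 80, 60, 4],
  [77, 29, 4, 3, 72, 49, 20, 14, 71, 74],
  [78, 71, 31, 7, 4, 13, 10, 31, 80, 77],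
  [79, 36, 24, 73, 23, 67, 72, 28, 61, 46],
  [80, 77, 1, 75, 13, 64, 37, 33, 52, 11]]
def tabB9 : List (List ℕ) := [[1, 9, 63, 36, 76, 34, 73, 60, 72, 13, 62, 35],
  [2, 1, 1, 44, 45, 11, 63, 79, 67, 28, 50, 38],
  [31, 11, 33, 16, 50, 34, 34, 75, 26, 1, 54, 67],
  [35, 13, 42, 40, 62, 19, 41, 72, 59, 64, 26, 37],
  [50, 12, 79, 77, 41, 3, 1, 68, 54, 62, 73, 16],
  [52, 14, 25, 44, 14, 49, 12, 1, 73, 72, 0, 8],
  [58, 10, 30, 30, 70, 52, 24, 64, 39, 70, 62, 28],
  [62, 17, 39, 31, 15, 64, 67, 36, 21, 25, 28, 55],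
  [68, 15, 77, 34, 69, 5, 63, 50, 7, 77, 77, 77],
  [70, 16, 23, 40, 39, 14, 50, 79, 44, 80, 56, 39]]

private noncomputable def _root_.Cfsg.Agent.LsF.fef6ddb_16 : {f // @Cfsg.Agent.H3.TC.cEq = f} := ⟨_, by first | (delta Cfsg.Agent.H3.TC.cEq; rewrite [Cfsg.Agent.LsF.and_eq]; exact rfl) | exact rfl⟩
private noncomputable def _root_.Cfsg.Agent.LsF.fef6ddb_17 : {f // @Cfsg.Agent.H3.TC.cNz = f} := ⟨_, by first | (delta Cfsg.Agent.H3.TC.cNz; rewrite [Cfsg.Agent.LsF.and_eq]; exact rfl) | exact rfl⟩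
private noncomputable def _root_.Cfsg.Agent.LsF.fef6ddb_18 : {f // @Cfsg.Agent.H3.TC.cOk = f} := ⟨_, by first | (delta Cfsg.Agent.H3.TC.cOk; rewrite [Cfsg.Agent.LsF.fef6ddb_16.2, Cfsg.Agent.LsF.fef6ddb_17.2, Cfsg.Agent.LsF.and_eq]; exact rfl) | exact rfl⟩
private noncomputable def _root_.Cfsg.Agent.LsF.fef6ddb_19 : {f // @Cfsg.Agent.H3.TC.cMk = f} := ⟨_, by first | (delta Cfsg.Agent.H3.TC.cMk; rewrite [Cfsg.Agent.LsF.getD_eq]; exact rfl) | exact rfl⟩
private noncomputable def _root_.Cfsg.Agent.LsF.fef6ddb_20 : {f // @Cfsg.Agent.H3.TC.cChk1 = f} := ⟨_, by first | (delta Cfsg.Agent.H3.TC.cChk1; rewrite [Cfsg.Agent.LsF.fef6ddb_18.2, Cfsg.Agent.LsF.fef6ddb_19.2, Cfsg.Agent.LsF.fef6ddb_17.2, Cfsg.Agent.LsF.and_eq, Cfsg.Agent.LsF.getD_eq, Cfsg.Agent.LsF.tail_eq, Cfsg.Agent.LsF.length_eq]; exact rfl) | exact rfl⟩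
theorem chkA9 : ∀ l ∈ tabA9, chk1 K81.of K81.s (K81.of t9) (mk9 K81.of X9) l = true :=
  chk1_of K81.ch (X := cMk X9) (by ((try (rewrite [Cfsg.Agent.LsF.fef6ddb_20.2, Cfsg.Agent.LsF.fef6ddb_19.2, Cfsg.Agent.LsF.all_eq])); decide +kernel))
theorem chkB9 : ∀ l ∈ tabB9, chk2 K81.of K81.s (K81.of t9) l = true := chk2_of K81.ch (by decide +kernel)
theorem okX9 : M3.Ok K81.s (K81.of t9) (mk9 K81.of X9) := cOk_ok K81.ch (A := cMk X9) (by decide +kernel)

theorem pp_K81 : H494.TC.PP (PSU 3 K81 9) :=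
  pp_of_tab K81.card (by norm_num) (k := 3) (by norm_num) K81.s K81.s_eq K81.of okX9 chkA9 chkB9
    (any_of K81.of_surj (by decide +kernel))
    (by decide +kernel) (fun σ hσ => exists_bc K81.card (by decide +kernel) σ hσ)
    (fun σ hσ g hg => iso_odd K81.card (by decide +kernel) σ hσ g hg) (r := 73) (by norm_num) (by norm_num)
    (npw_of K81.ch (A := cMk X9) (by decide +kernel)) (by decide +kernel)

theorem pp_psu_three_nine {F : Type*} [Field F] [Fintype F] (hF : Fintype.card F = 81) : H494.TC.PP (PSU 3 F 9) :=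
  H494.TC.PP.of_equiv (LieClassical.FieldTransfer.psuCongr 3 9 (FiniteField.ringEquivOfCardEq (K := F) (K' := K81)
    (by rw [K81.card, hF]; norm_num))) pp_K81

end Cfsg.Agent.H3.TC
end

-- part: H3/TC/U4
section
/-!
# `PSU_3(4)`: products of two conjugates of an element of order `13` (helper3)
-/

set_option autoImplicit false

namespace Cfsg.Agent.H3.TC

open Matrix Cfsg

section even

variable {F : Type*} [Field F] {σ : F →+* F}

/-- the basis change in characteristic `2` -/
theorem bc_two (h2 : (2 : F) = 0) (hσ2 : ∀ x, σ (σ x) = x) {w : F} (hw : w + σ w = 1) :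
    Bc σ !![1, 0, w; 0, 1, 0; 1, 0, σ w] !![σ w, 0, w; 0, 1, 0; 1, 0, 1] := by
  have hS : (!![1, 0, w; 0, 1, 0; 1, 0, σ w] : Matrix (Fin 3) (Fin 3) F) * !![σ w, 0, w; 0, 1, 0; 1, 0, 1] = 1 := by
    ext i j
    (revert i j; simp only [Matrix.mul_apply, Fin.sum_univ_three, _root_.Fin.forall_fin_succ, _root_.Matrix.of_apply, _root_.Matrix.cons_val', _root_.Matrix.cons_val_fin_one, Fin.isValue, _root_.Matrix.cons_val_zero, _root_.Matrix.cons_val_one, _root_.Matrix.cons_val, _root_.MulZeroClass.mul_zero, _root_.add_zero, _root_.mul_one, _root_.Matrix.cons_val_succ, _root_.zero_add, _root_.IsEmpty.forall_iff, _root_.one_mul, _root_.Matrix.one_apply_eq, Nat.reduceAdd, _root_.Fin.succ_zero_eq_one, _root_.ne_eq, _root_.zero_ne_one, _root_.not_false_eq_true, _root_.Matrix.one_apply_ne, _root_.Fin.succ_one_eq_two, Fin.reduceEq, _root_.Fin.succ_ne_zero, _root_.MulZeroClass.zero_mul, _root_.and_true, _root_.true_and]) <;> (repeat' with_reducible apply And.intro)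
    · linear_combination hw
    · linear_combination w * h2
    · linear_combination σ w * h2
    · linear_combination hw
  refine ⟨hS, fun A => ?_⟩
  have e1 : st σ (!![1, 0, w; 0, 1, 0; 1, 0, σ w] : Matrix (Fin 3) (Fin 3) F) = !![w, 0, σ w; 0, 1, 0; 1, 0, 1] := by
    rw [st_of]
    ext i j
    (revert i j; simp [hσ2, _root_.Fin.forall_fin_succ])
  have e2 : st σ (!![σ w, 0, w; 0, 1, 0; 1, 0, 1] : Matrix (Fin 3) (Fin 3) F) = !![1, 0, σ w; 0, 1, 0; 1, 0, w] := by
    rw [st_of]
    ext i j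
    (revert i j; simp [hσ2, _root_.Fin.forall_fin_succ])
  have e3 : st σ A = !![σ (A 2 2), σ (A 1 2), σ (A 0 2); σ (A 2 1), σ (A 1 1), σ (A 0 1);
      σ (A 2 0), σ (A 1 0), σ (A 0 0)] := by
    conv_lhs => rw [Matrix.eta_fin_three A]
    rw [st_of]
  have e4 : (A.map σ)ᵀ = !![σ (A 0 0), σ (A 1 0), σ (A 2 0); σ (A 0 1), σ (A 1 1), σ (A 2 1);
      σ (A 0 2), σ (A 1 2), σ (A 2 2)] := by
    ext i j
    fin_cases i <;> fin_cases j <;> rfl
  rw [st_mul, st_mul, e1, e2, e3, e4]
  ext i j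
  (revert i j; simp only [Matrix.mul_apply, Fin.sum_univ_three, _root_.Fin.forall_fin_succ, Fin.isValue, _root_.Matrix.cons_mul, _root_.Nat.succ_eq_add_one, Nat.reduceAdd, _root_.Matrix.vecMul_cons, _root_.Matrix.head_cons, _root_.Matrix.smul_cons, _root_.smul_eq_mul, _root_.mul_one, _root_.MulZeroClass.mul_zero, _root_.Matrix.smul_empty, _root_.Matrix.tail_cons, _root_.Matrix.empty_vecMul, _root_.add_zero, _root_.Matrix.add_cons, _root_.zero_add, _root_.Matrix.empty_add_empty, _root_.Matrix.empty_mul, _root_.Equiv.symm_apply_apply, _root_.Matrix.of_apply, _root_.Matrix.cons_val', _root_.Matrix.cons_val_fin_one, _root_.Matrix.cons_val_zero, _root_.Matrix.cons_val_one, _root_.Matrix.cons_val, _root_.zero_smul, _root_.one_smul, _root_.Matrix.cons_val_succ, _root_.forall_const, _root_.MulZeroClass.zero_mul, _root_.one_mul, _root_.true_and]) <;> (repeat' with_reducible apply And.intro) <;> ring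

/-- nonscalar elements move an isotropic vector off its orthogonal space, characteristic `2` -/
theorem exists_iso_two (h2 : (2 : F) = 0) (hσ2 : ∀ x, σ (σ x) = x) {w l : F} (hw : w + σ w = 1) (hl : σ l = l)
    (hl0 : l ≠ 0) (hl1 : l ≠ 1) {g : Matrix (Fin 3) (Fin 3) F} (hs : ∀ c : F, g ≠ c • (1 : Matrix (Fin 3) (Fin 3) F)) :
    ∃ e : Fin 3 → F, Bf σ e e = 0 ∧ Bf σ (g *ᵥ e) e ≠ 0 := by
  by_contra hcon
  push Not at hcon
  have key : ∀ x y : F, y + σ y + x * σ x = 0 →
      (g 0 0 + g 0 1 * x + g 0 2 * y) * σ y + (g 1 0 + g 1 1 * x + g 1 2 * y) * σ x +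
        (g 2 0 + g 2 1 * x + g 2 2 * y) = 0 := by
    intro x y hxy
    have := hcon ![1, x, y] (by simp only [Bf, _root_.Fin.isValue, _root_.Matrix.cons_val_zero, _root_.Matrix.cons_val, _root_.one_mul, _root_.Matrix.cons_val_one, _root_.map_one, _root_.mul_one]; linear_combination hxy)
    simpa only [Bf, Matrix.mulVec, dotProduct, Fin.sum_univ_three, _root_.Fin.isValue, _root_.Matrix.cons_val_zero, _root_.mul_one, _root_.Matrix.cons_val_one, _root_.Matrix.cons_val, _root_.map_one] using this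
  have k0 : g 2 0 = 0 := by
    have := key 0 0 (by simp)
    simpa using this
  have k1 : g 0 2 = 0 := by
    have := hcon ![0, 0, 1] (by simp [Bf])
    simpa only [Bf, Matrix.mulVec, dotProduct, Fin.sum_univ_three, _root_.Fin.isValue, _root_.Matrix.cons_val_zero, _root_.MulZeroClass.mul_zero, _root_.Matrix.cons_val_one, _root_.add_zero, _root_.Matrix.cons_val, _root_.mul_one, _root_.zero_add, _root_.map_one, _root_.map_zero] using this
  have k2 : g 2 2 = g 0 0 := by
    have h5 := key 0 1 (by rw [map_one, map_zero]; linear_combination h2)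
    rw [k0, k1, map_one, map_zero] at h5
    linear_combination h5 - g 0 0 * h2
  have hσw : σ w = 1 - w := by linear_combination hw
  have m1 := key 1 w (by rw [map_one]; linear_combination hw + h2)
  have m2 := key 1 (w + 1) (by rw [map_add, map_one]; linear_combination hw + 2 * h2)
  have m3 := key w (w * σ w * w) (by
    rw [map_mul, map_mul, hσ2]; linear_combination (w * σ w) * hw + w * σ w * h2)
  have m4 := key w (w * σ w * w + 1) (by
    rw [map_add, map_one, map_mul, map_mul, hσ2]; linear_combination (w * σ w) * hw + (w * σ w + 1) * h2)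
  have m5 := key l (l ^ 2 * w) (by
    rw [map_mul, map_pow, hl]; linear_combination l ^ 2 * hw + l ^ 2 * h2)
  simp only [map_add, map_mul, map_pow, map_one, hσ2, hl, k0, k1, k2] at m1 m2 m3 m4 m5
  have n1 : g 0 1 + g 1 2 = 0 := by linear_combination m2 - m1 - g 0 0 * h2
  have n2 : g 0 1 * w + g 1 2 * σ w = 0 := by linear_combination m4 - m3 - g 0 0 * h2
  have n3 : g 0 1 = 0 := by linear_combination n2 - σ w * n1 + g 0 1 * σ w * h2 - g 0 1 * hw
  have n4 : g 1 2 = 0 := by linear_combination n1 - n3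
  rw [n3, n4] at m1 m3 m5
  have p1 : (g 0 0 + g 1 1) + g 1 0 + g 2 1 = 0 := by linear_combination m1 - g 0 0 * hw
  have p3 : (g 0 0 + g 1 1) * (w * σ w) + g 1 0 * σ w + g 2 1 * w = 0 := by
    linear_combination m3 - g 0 0 * (w * σ w) * hw
  have p5 : (g 0 0 + g 1 1) * l ^ 2 + g 1 0 * l + g 2 1 * l = 0 := by
    linear_combination m5 - g 0 0 * l ^ 2 * hw
  have q1 : g 0 0 + g 1 1 = 0 := by
    have h6 : l * (l - 1) * (g 0 0 + g 1 1) = 0 := by linear_combination p5 - l * p1
    exact (mul_eq_zero.1 h6).resolve_left (mul_ne_zero hl0 (sub_ne_zero.2 hl1))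
  have q2 : g 1 0 = 0 := by
    have h7 : g 2 1 = -g 1 0 := by linear_combination p1 - q1
    rw [q1, h7] at p3
    linear_combination p3 + g 1 0 * w * h2 - g 1 0 * hw
  have q3 : g 2 1 = 0 := by linear_combination p1 - q1 - q2
  have q4 : g 1 1 = g 0 0 := by linear_combination q1 - g 0 0 * h2
  apply hs (g 0 0)
  ext i j
  (revert i j; simp only [k0, k1, k2, n3, n4, q2, q3, q4, _root_.Fin.forall_fin_succ, Fin.isValue, _root_.Matrix.smul_apply, _root_.smul_eq_mul, _root_.Fin.succ_zero_eq_one, _root_.Fin.succ_one_eq_two, _root_.IsEmpty.forall_iff, _root_.and_true, _root_.Matrix.one_apply_eq, _root_.mul_one, Nat.reduceAdd, _root_.ne_eq, _root_.zero_ne_one, _root_.not_false_eq_true, _root_.Matrix.one_apply_ne, _root_.MulZeroClass.mul_zero, Fin.reduceEq, _root_.and_self, _root_.Fin.succ_ne_zero])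

end even

/-- the field with four elements -/
abbrev K4 : Type := QuadraticAlgebra (ZMod 2) 1 1

namespace K4

instance hab : Fact (∀ r : ZMod 2, r ^ 2 ≠ 1 + 1 * r) := ⟨by decide⟩

instance fin : Fintype K4 := Fintype.ofEquiv (ZMod 2 × ZMod 2) (QuadraticAlgebra.equivProd 1 1).symm

def of (n : ℕ) : K4 := ⟨(Fin.ofNat 2 n : Fin 2), (Fin.ofNat 2 (n / 2) : Fin 2)⟩

theorem card : Fintype.card K4 = 4 := by
  rw [Fintype.card_congr (QuadraticAlgebra.equivProd (1 : ZMod 2) 1), Fintype.card_prod, ZMod.card]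

end K4

/-- the field with sixteen elements -/
abbrev K16 : Type := QuadraticAlgebra K4 (K4.of 2) (K4.of 1)

namespace K16

instance hab : Fact (∀ r : K4, r ^ 2 ≠ K4.of 2 + K4.of 1 * r) := ⟨by decide +kernel⟩

instance fin : Fintype K16 := Fintype.ofEquiv (K4 × K4) (QuadraticAlgebra.equivProd (K4.of 2) (K4.of 1)).symm

def of (n : ℕ) : K16 := ⟨K4.of n, K4.of (n / 4)⟩

def s (x : K16) : K16 := ⟨x.re + x.im, -x.im⟩

theorem card : Fintype.card K16 = 4 ^ 2 := by
  rw [Fintype.card_congr (QuadraticAlgebra.equivProd (K4.of 2) (K4.of 1)), Fintype.card_prod, K4.card]; rfl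

theorem s_eq : ∀ x : K16, s x = x ^ 4 := by decide +kernel

end K16

def X4 : List ℕ := [5, 10, 1, 12, 9, 13, 6, 8, 7]
def t4 : ℕ := 11
def tabA4 : List (List ℕ) := [[0, 4, 1, 5, 10, 9, 2, 1, 13, 6],
  [1, 3, 7, 7, 14, 5, 15, 8, 3, 13],
  [2, 11, 13, 8, 5, 2, 2, 7, 3, 2],
  [3, 11, 1, 14, 3, 6, 15, 10, 8, 6],
  [4, 4, 8, 1, 5, 4, 9, 2, 2, 11],
  [5, 12, 2, 13, 4, 13, 12, 15, 0, 10],
  [6, 11, 9, 10, 5, 11, 9, 7, 5, 11],
  [7, 3, 6, 4, 12, 15, 15, 5, 9, 7],
  [8, 7, 8, 15, 15, 7, 6, 10, 5, 11],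
  [9, 6, 15, 8, 15, 4, 4, 3, 1, 9],
  [10, 1, 2, 13, 5, 11, 6, 10, 11, 1],
  [11, 3, 4, 13, 1, 9, 12, 10, 3, 1],
  [12, 6, 15, 8, 13, 2, 14, 12, 3, 15],
  [13, 14, 15, 8, 11, 4, 4, 4, 14, 1],
  [14, 9, 8, 13, 15, 1, 5, 2, 0, 3],
  [15, 12, 4, 11, 0, 14, 7, 4, 8, 9]]
def tabB4 : List (List ℕ) := [[1, 1, 1, 14, 11, 10, 12, 11, 5, 8, 15, 14],
  [8, 6, 11, 14, 14, 12, 13, 7, 8, 5, 4, 2],
  [10, 7, 9, 6, 7, 3, 10, 9, 7, 10, 4, 4],
  [13, 5, 15, 9, 0, 7, 2, 10, 1, 5, 11, 8],
  [14, 4, 12, 3, 3, 14, 1, 0, 6, 9, 11, 8]]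

theorem chkA4 : ∀ l ∈ tabA4, chk1 K16.of K16.s (K16.of t4) (mk9 K16.of X4) l = true := by decide +kernel
theorem chkB4 : ∀ l ∈ tabB4, chk2 K16.of K16.s (K16.of t4) l = true := by decide +kernel
theorem okX4 : M3.Ok K16.s (K16.of t4) (mk9 K16.of X4) := by decide +kernel

theorem pp_K16 : H494.TC.PP (PSU 3 K16 4) := by
  have h2 : (2 : K16) = 0 := by decide +kernel
  have hs : ∀ σ : K16 →+* K16, (∀ x, σ x = x ^ 4) → ∀ x, σ x = K16.s x := fun σ hσ x => by rw [hσ, K16.s_eq]
  have hss : ∀ x, K16.s (K16.s x) = x := by decide +kernel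
  refine pp_of_tab K16.card (by norm_num) (k := 3) (by norm_num) K16.s K16.s_eq K16.of okX4 chkA4 chkB4
    (by decide +kernel) (by decide +kernel) (fun σ hσ => ?_) (fun σ hσ g hg => ?_) (r := 13) (by norm_num) (by norm_num)
    (by decide +kernel) (by decide +kernel)
  · exact ⟨_, _, bc_two h2 (fun x => by rw [hs σ hσ, hs σ hσ, hss]) (w := K16.of 4)
      (by rw [hs σ hσ]; decide +kernel)⟩
  · exact exists_iso_two h2 (fun x => by rw [hs σ hσ, hs σ hσ, hss]) (w := K16.of 4) (l := K16.of 2)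
      (by rw [hs σ hσ]; decide +kernel) (by rw [hs σ hσ]; decide +kernel) (by decide +kernel) (by decide +kernel) hg

theorem pp_psu_three_four {F : Type*} [Field F] [Fintype F] (hF : Fintype.card F = 16) : H494.TC.PP (PSU 3 F 4) :=
  H494.TC.PP.of_equiv (LieClassical.FieldTransfer.psuCongr 3 4 (FiniteField.ringEquivOfCardEq (K := F) (K' := K16)
    (by rw [K16.card, hF]; norm_num))) pp_K16

end Cfsg.Agent.H3.TC
end

-- part: H950/TC/PsuThree
section
/-!
# `PSU_3(q)`, one class of elements of prime order `r ≥ 5`, `r ∣ q - 1` (helper950; S4173, S2464, S2452)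
-/

set_option autoImplicit false
set_option linter.unusedSectionVars false

namespace Cfsg.Agent.H950.TC

open Cfsg Module Polynomial Cfsg.Agent.H951 Matrix Cfsg.Agent.H98.Ore Cfsg.Agent.H950.War Cfsg.Agent.H951.OreU
  Cfsg.Agent.H984.Ore
open Cfsg.Agent.LieClassical.HermBasic
open Cfsg.Agent.H140.TC (TC)

section geo

variable {F V : Type*} [Field F] [Fintype F] [AddCommGroup V] [Module F V] [FiniteDimensional F V]
  {q : ℕ} {σ : F →+* F} {B : V → V → F}

/-- `n = 3`, a real Levi element with eigenvalue `x`, `σ x = x`, `x ^ r = 1` -/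
theorem cov_three_real (hB : HS q σ B) (hn : finrank F V = 3) {x : F} (hx0 : x ≠ 0) (hσ : σ x = x)
    (hxx : x * x ≠ 1) (hx1' : x ≠ 1) {r : ℕ} (hxr : x ^ r = 1) :
    ∃ x₀ : V ≃ₗ[F] V, x₀ ^ r = 1 ∧ (∃ u ∈ SGr B, x₀⁻¹ = u * x₀ * u⁻¹) ∧ Cov B x₀ := by
  have hcopx : IsCoprime (X - C x : F[X]) ((X - C x : F[X]).map σ).reverse := by
    have h1 : ((X - C x : F[X]).map σ).reverse = C (-x) * (X - C x⁻¹) := by
      rw [Polynomial.map_sub, Polynomial.map_X, Polynomial.map_C, hσ]
      ext i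
      rw [Polynomial.coeff_reverse, Polynomial.natDegree_X_sub_C, Polynomial.coeff_C_mul, Polynomial.coeff_sub,
        Polynomial.coeff_sub]
      rcases i with _ | _ | i
      · rw [Polynomial.revAt_le (by omega)]
        simp only [hx0, _root_.tsub_zero, _root_.Polynomial.coeff_X_one, _root_.Polynomial.coeff_C_succ, _root_.sub_zero, _root_.Polynomial.coeff_X_zero, _root_.Polynomial.coeff_C_zero, _root_.zero_sub, _root_.mul_neg, _root_.neg_mul, _root_.ne_eq, _root_.not_false_eq_true, _root_.mul_inv_cancel₀, _root_.neg_neg]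
      · rw [Polynomial.revAt_le (by omega)]
        simp only [_root_.zero_add, _root_.tsub_self, _root_.Polynomial.coeff_X_zero, _root_.Polynomial.coeff_C_zero, _root_.zero_sub, _root_.Polynomial.coeff_X_one, _root_.Polynomial.coeff_C_succ, _root_.sub_zero, _root_.mul_one]
      · rw [Polynomial.revAt_eq_self_of_lt (by omega)]
        simp only [Polynomial.coeff_X, _root_.Nat.right_eq_add, _root_.Nat.add_eq_zero_iff, _root_.one_ne_zero, _root_.and_false, ↓ _root_.reduceIte, _root_.Polynomial.coeff_C_succ, _root_.sub_self, _root_.MulZeroClass.mul_zero]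
    rw [h1]
    have h2 : IsUnit (C (-x) : F[X]) := Polynomial.isUnit_C.2 (isUnit_iff_ne_zero.2 (neg_ne_zero.2 hx0))
    rw [isCoprime_mul_unit_left_right h2]
    apply Polynomial.isCoprime_X_sub_C_of_isUnit_sub
    rw [isUnit_iff_ne_zero, sub_ne_zero]
    intro h3
    apply hxx
    nth_rw 1 [h3]
    exact inv_mul_cancel₀ hx0
  have hev : (X - C x : F[X]).eval (σ x * x⁻¹) ≠ 0 := by
    rw [Polynomial.eval_sub, Polynomial.eval_X, Polynomial.eval_C, hσ, mul_inv_cancel₀ hx0]
    intro h1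
    exact hx1' (sub_eq_zero.1 h1).symm
  -- diagonal matrices with one entry
  have hdet : ∀ {ι : Type} [Fintype ι] [DecidableEq ι], Fintype.card ι = 1 →
      (Matrix.diagonal (fun _ : ι => x)).det = x := by
    intro ι _ _ h1
    rw [Matrix.det_diagonal, Finset.prod_const, Finset.card_univ, h1, pow_one]
  have hcp : ∀ {ι : Type} [Fintype ι] [DecidableEq ι], Fintype.card ι = 1 →
      (Matrix.diagonal (fun _ : ι => x)).charpoly = X - C x := by
    intro ι _ _ h1
    rw [Matrix.charpoly_diagonal, Finset.prod_const, Finset.card_univ, h1, pow_one]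
  have hne' : finrank F V = 2 * Fintype.card (Fin 1) + 1 := by rw [Fintype.card_fin, hn]
  obtain ⟨v, v', hv⟩ := exists_fr 1 hB (by omega)
  have hf1 : Fintype.card (Fin 1) = 1 := Fintype.card_fin 1
  obtain ⟨Z, hZ⟩ : ∃ Z : Matrix (Fin 1) (Fin 1) F, Z = Matrix.diagonal (fun _ : Fin 1 => x) := ⟨_, rfl⟩
  have hZd : Z.det = x := by rw [hZ, hdet hf1]
  have hZc : Z.charpoly = X - C x := by rw [hZ, hcp hf1]
  have hZ0 : Z.det ≠ 0 := by rw [hZd]; exact hx0
  obtain ⟨x₀, hxm, hxw, hxw'⟩ := exists_lev hB le_rfl hne' hv hZ0 (fun h => absurd h one_ne_zero)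
  have hZr : Z ^ r = 1 := by
    rw [hZ, Matrix.diagonal_pow]
    simp only [Pi.pow_def, hxr]
    exact Matrix.diagonal_one
  refine ⟨x₀, ?_, ?_, hxm, fun g hg hs => ?_⟩
  · refine fix_one hB le_rfl hne' hv ((SGr B).pow_mem hxm r) (fun j => ?_) (fun j => ?_)
    · rw [pow_frame hxw, hZr]
      simp only [Matrix.one_apply, ite_smul, one_smul, zero_smul, Finset.sum_ite_eq', Finset.mem_univ, if_true]
    · rw [pow_frame hxw', ← ist_pow hB, hZr, ist_one hB]
      simp only [Matrix.one_apply, ite_smul, one_smul, zero_smul, Finset.sum_ite_eq', Finset.mem_univ, if_true]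
  · -- `x₀` is real
    have hZu : IsUnit Z.det := isUnit_iff_ne_zero.2 hZ0
    have hinv : ∀ {w : Fin 1 → V} {Y : Matrix (Fin 1) (Fin 1) F}, IsUnit Y.det → (∀ j, x₀ (w j) = ∑ i, Y i j • w i) →
        ∀ j, x₀⁻¹ (w j) = ∑ i, Y⁻¹ i j • w i := by
      intro w Y hY hw j
      have h1 : x₀ (∑ i, Y⁻¹ i j • w i) = w j := by
        rw [map_sum]
        simp only [map_smul, hw, Finset.smul_sum, smul_smul]
        rw [Finset.sum_comm]
        simp only [← Finset.sum_smul]
        have h2 : ∀ i, ∑ k, Y⁻¹ k j * Y i k = if i = j then 1 else 0 := by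
          intro i
          have h3 := congrFun (congrFun (Matrix.mul_nonsing_inv Y hY) i) j
          rw [Matrix.mul_apply, Matrix.one_apply] at h3
          rw [← h3]
          exact Finset.sum_congr rfl fun k _ => mul_comm _ _
        simp only [h2, ite_smul, one_smul, zero_smul, Finset.sum_ite_eq', Finset.mem_univ, if_true]
      conv_lhs => rw [← h1]
      exact x₀.symm_apply_apply _
    have hd1 : (ist σ Z).det ≠ 0 := by
      rw [det_ist, map_inv₀]
      exact inv_ne_zero ((_root_.map_ne_zero σ).2 hZ0)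
    have h1 : (ist σ Z)⁻¹ = (σ.mapMatrix Z)ᵀ := by
      have h2 : ist σ Z = (σ.mapMatrix Z⁻¹)ᵀ := by ext i j; rfl
      apply Matrix.inv_eq_right_inv
      rw [h2, ← Matrix.transpose_mul, ← map_mul, Matrix.mul_nonsing_inv _ hZu, map_one, Matrix.transpose_one]
    have h3 : ((ist σ Z)⁻¹).charpoly = Z.charpoly := by
      rw [h1, Matrix.charpoly_transpose, RingHom.mapMatrix_apply, Matrix.charpoly_map, hZc, Polynomial.map_sub,
        Polynomial.map_X, Polynomial.map_C, hσ]
    have hlv : Lv B v' v (ist σ Z)⁻¹ x₀⁻¹ :=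
      ⟨hv.swap hB, (SGr B).inv_mem hxm, hinv (isUnit_iff_ne_zero.2 hd1) hxw'⟩
    obtain ⟨u, hu, hxu⟩ := conj_fin hB le_rfl one_pos (by omega) hlv ⟨hv, hxm, hxw⟩
      (by rw [hZc]; exact Polynomial.irreducible_X_sub_C x) (by rw [hZc]; simpa using hx0) h3
      (by rw [hZc]; exact hcopx) (fun _ => by rw [hZc, hZd]; exact hev)
    refine ⟨u⁻¹, (SGr B).inv_mem hu, ?_⟩
    conv_rhs => rw [hxu]
    group
  · have hgi : Isom B (g : End F V) := (mem_SGr.1 hg).1
    obtain ⟨w, hw, hgw⟩ := exists_typeI hB hgi hs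
    obtain ⟨U, g₁, b, h⟩ := exists_step hB hgi hw hgw
    obtain ⟨hU, hfr⟩ := Step.hs hB hgi h
    obtain ⟨R, -, hR⟩ := Cfsg.Agent.H24.Ore.cor_step_odd hB hgi h (κ := Empty) (P₁ := 0)
      (by rw [Fintype.card_empty]; omega)
      ⟨Empty.elim, Empty.elim, ⟨fun i => i.elim, fun i => i.elim, fun i => i.elim⟩, fun i => i.elim⟩ 1
    have hP : Matrix.fromBlocks (Matrix.of fun (_ _ : Unit) => (1 : F)) R 0 (0 : Matrix Empty Empty F) = 1 := by
      ext i j
      rcases i with i | i
      · rcases j with j | j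
        · rw [Matrix.fromBlocks_apply₁₁, Subsingleton.elim j i, Matrix.one_apply_eq]
          rfl
        · exact j.elim
      · exact i.elim
    rw [hP] at hR
    have hu1 : Fintype.card (Unit ⊕ Empty) = 1 := rfl
    obtain ⟨w, w', y, hy, a, ha, b, hb, hG⟩ := criterionC hB hg (ι := Unit ⊕ Empty) (Or.inr (by rw [hn]; rfl)) (P := 1)
      (Z := Matrix.diagonal (fun _ : Unit ⊕ Empty => x)) (h := 1) hR
      (by rw [one_mul, mul_one]) Matrix.det_one (by rw [hdet hu1]; exact hx0) (fun h2 => by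
        exfalso
        rw [hn, hu1] at h2
        omega) (by rw [hcp hu1]; exact hcopx) (by rw [hcp hu1, hdet hu1]; exact hev)
    obtain ⟨u, hu, hxu⟩ := conj_any hB le_rfl one_pos (by omega) hu1 hy ⟨hv, hxm, hxw⟩
      (by rw [hZc]; exact Polynomial.irreducible_X_sub_C x) (by rw [hZc]; simpa using hx0)
      (by rw [hZc, hcp hu1]) (by rw [hZc]; exact hcopx) (fun _ => by rw [hZc, hZd]; exact hev)
    refine ⟨a * u⁻¹, (SGr B).mul_mem ha ((SGr B).inv_mem hu), b * u⁻¹, (SGr B).mul_mem hb ((SGr B).inv_mem hu), ?_⟩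
    rw [hG, hxu]
    group

end geo

section grp

open Cfsg.Agent.ClassicalGeometry.PSUAutBasic (pr pr_surjective pr_eq_one_iff)

universe u

variable {F : Type u} [Field F] [Fintype F] {q : ℕ}

/-- **passage to `PSU` in the strong form** -/
theorem pp_of_cov (hF : Fintype.card F = q ^ 2) {n : ℕ} (hn : 3 ≤ n) (h32 : ¬ (n = 3 ∧ q = 2))
    {x₀ : (Fin n → F) ≃ₗ[F] (Fin n → F)} {r : ℕ} (hr : r.Prime) (hr5 : 5 ≤ r) (hxr : x₀ ^ r = 1)
    (hre : ∃ u ∈ SGr (hermForm n F q), x₀⁻¹ = u * x₀ * u⁻¹) (hc : Cov (hermForm n F q) x₀) :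
    Cfsg.Agent.H494.TC.PP (PSU n F q) := by
  obtain ⟨u₀, hu₀, hreal⟩ := hre
  obtain ⟨x, hx, h⟩ := pair_of_cov hc
  obtain ⟨u₀, rfl⟩ := exists_psi hu₀
  have hxu : x⁻¹ = u₀ * x * u₀⁻¹ := by
    apply psi_injective (F := F) (q := q) n
    rw [map_inv, hx, hreal, map_mul, map_mul, map_inv, hx]
  have h6 : Nat.Coprime r 6 := by
    rw [Nat.Prime.coprime_iff_not_dvd hr]
    intro hd
    have h1 := Nat.le_of_dvd (by norm_num) hd
    interval_cases r
    · omega
    · exact absurd hr (by norm_num)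
  have hxr' : x ^ r = 1 := by
    apply psi_injective (F := F) (q := q) n
    rw [map_pow, hx, hxr, map_one]
  -- the order
  have hx1 : pr n F q x ≠ 1 := by
    intro h1
    -- some nonidentity element
    have h2 : ∀ g : PSU n F q, g = 1 := by
      intro g
      by_contra hg
      obtain ⟨u, v, e⟩ := h g hg
      apply hg
      rw [e, map_inv, h1]
      group
    haveI : IsSimpleGroup (PSU n F q) := Cfsg.Agent.S0283.result hF n hn h32
    obtain ⟨g, hg⟩ := _root_.exists_ne (1 : PSU n F q)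
    exact hg (h2 g)
  have hord : orderOf (pr n F q x) = r := by
    have h1 : orderOf (pr n F q x) ∣ r := by
      apply orderOf_dvd_of_pow_eq_one
      rw [← map_pow, hxr', map_one]
    exact ((Nat.dvd_prime hr).1 h1).resolve_left fun h2 => hx1 (orderOf_eq_one_iff.1 h2)
  refine ⟨pr n F q x, by rw [hord]; exact hr, by rw [hord]; exact h6, fun g hg => ?_⟩
  obtain ⟨u, v, e⟩ := h g hg
  refine ⟨u, v * pr n F q u₀, ?_⟩
  rw [e, hxu]
  simp only [map_mul, map_inv]
  group

/-- **`PSU_3(q)`, `r ∣ q - 1`** -/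
theorem pp_psu_three (hF : Fintype.card F = q ^ 2) {r : ℕ} (hr : r.Prime) (h5 : 5 ≤ r) (hd : r ∣ q - 1) :
    Cfsg.Agent.H494.TC.PP (PSU 3 F q) := by
  have hB := hs_herm hF 3
  have hq := LieClassical.HermBasic.two_le hF
  have hq3 : 3 ≤ q := by
    have := Nat.le_of_dvd (by omega) hd
    omega
  obtain ⟨η, hη⟩ := IsCyclic.exists_generator (α := Fˣ)
  have hηord : orderOf η = q ^ 2 - 1 := by
    rw [orderOf_eq_card_of_forall_mem_zpowers hη, Nat.card_units, Nat.card_eq_fintype_card, hF]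
  have hq2 : q ^ 2 - 1 = (q - 1) * (q + 1) := by
    obtain ⟨r, rfl⟩ : ∃ r, q = r + 1 := ⟨q - 1, by omega⟩
    have : (r + 1) ^ 2 = r * (r + 1 + 1) + 1 := by ring
    rw [this]; simp only [_root_.add_tsub_cancel_right]
  obtain ⟨t, ht⟩ := hd
  have ht0 : t ≠ 0 := by
    rintro rfl
    omega
  -- an element of order `r`
  have hpos : t * (q + 1) ≠ 0 := mul_ne_zero ht0 (by omega)
  have hord : orderOf (η ^ (t * (q + 1))) = r := by
    have h1 : q ^ 2 - 1 = t * (q + 1) * r := by rw [hq2, ht]; ring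
    rw [orderOf_pow' η hpos, hηord, h1, Nat.gcd_eq_right (Dvd.intro _ rfl),
      Nat.mul_div_cancel_left _ (Nat.pos_of_ne_zero hpos)]
  obtain ⟨y, hy⟩ : ∃ y : Fˣ, y = η ^ (t * (q + 1)) := ⟨_, rfl⟩
  rw [← hy] at hord
  have hk : ∀ k : ℕ, (y : F) ^ k = 1 → r ∣ k := by
    intro k hk
    rw [← hord]
    apply orderOf_dvd_of_pow_eq_one
    apply Units.ext
    rw [Units.val_pow_eq_pow_val, hk, Units.val_one]
  have hyr : (y : F) ^ r = 1 := by
    rw [← hord, ← Units.val_pow_eq_pow_val, pow_orderOf_eq_one, Units.val_one]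
  obtain ⟨x₀, hxr, hre, hc⟩ := cov_three_real hB (Module.finrank_fin_fun F) (x := (y : F)) y.ne_zero (by
      rw [hB.sig]
      have h1 : (y : F) ^ (q - 1) = 1 := by rw [ht, pow_mul, hyr, one_pow]
      calc (y : F) ^ q = (y : F) ^ (q - 1 + 1) := by rw [Nat.sub_add_cancel (by omega)]
        _ = y := by rw [pow_succ, h1, one_mul]) (by
      intro h1
      have h2 := hk 2 (by rw [pow_two]; exact h1)
      have := Nat.le_of_dvd (by norm_num) h2
      omega) (by
      intro h1
      have h2 := hk 1 (by rw [pow_one]; exact h1)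
      have := Nat.le_of_dvd (by norm_num) h2
      omega) hyr
  exact pp_of_cov hF le_rfl (by omega) hr h5 hxr hre hc

end grp

end Cfsg.Agent.H950.TC
end

-- part: H3/TC/Six
section
/-!
# `PSU_3(q)`, `q ≥ 3`: products of two conjugates of an element of prime order `≥ 5` (helper3; S2464, S2452)
-/

set_option autoImplicit false

namespace Cfsg.Agent.H3.TC

open Matrix Cfsg

universe u

theorem three_pow_mod (b : ℕ) : 3 ^ b % 8 = 1 ∨ 3 ^ b % 8 = 3 := by
  induction b with
  | zero => left; rfl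
  | succ b ih =>
    rw [pow_succ]
    (clear * - ih; solve | lia | omega)

/-- `2 ^ m - 1` without prime divisors `≥ 5` -/
theorem two_pow_case {m : ℕ} (hm : 3 ≤ 2 ^ m) (h : ∀ r : ℕ, r.Prime → 5 ≤ r → ¬ r ∣ 2 ^ m - 1) : 2 ^ m = 4 := by
  have hm2 : 2 ≤ m := by
    by_contra hc
    have : m = 0 ∨ m = 1 := by omega
    rcases this with rfl | rfl <;> omega
  have hodd : ¬ 2 ∣ 2 ^ m - 1 := by
    have h1 : 2 ∣ 2 ^ m := dvd_pow_self 2 (by omega)
    omega
  have h3 : ∀ {d : ℕ}, d.Prime → d ∣ 2 ^ m - 1 → d = 3 := by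
    intro d hd hdd
    by_contra hne
    rcases Nat.lt_or_ge d 5 with h5 | h5
    · have h2 := hd.two_le
      have : d = 2 ∨ d = 4 := by omega
      rcases this with rfl | rfl
      · exact hodd hdd
      · exact absurd hd (by norm_num)
    · exact h d hd h5 hdd
  have h4 := Nat.eq_prime_pow_of_unique_prime_dvd (n := 2 ^ m - 1) (p := 3) (by omega) h3
  obtain ⟨b, hb⟩ : ∃ b, 2 ^ m - 1 = 3 ^ b := ⟨_, h4⟩
  rcases Nat.lt_or_ge m 3 with h5 | h5
  · have : m = 2 := by omega
    subst this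
    rfl
  · obtain ⟨j, rfl⟩ : ∃ j, m = j + 3 := ⟨m - 3, by omega⟩
    have h6 := three_pow_mod b
    have h7 : 2 ^ (j + 3) = 8 * 2 ^ j := by rw [pow_add]; ring
    have h8 : 0 < 2 ^ j := by positivity
    (clear * - hb h6 h7; omega)

/-- `3 ^ m - 1` without prime divisors `≥ 5` -/
theorem three_pow_case {m : ℕ} (hm : 3 ≤ 3 ^ m) (h : ∀ r : ℕ, r.Prime → 5 ≤ r → ¬ r ∣ 3 ^ m - 1) :
    3 ^ m = 3 ∨ 3 ^ m = 9 := by
  have hm1 : 1 ≤ m := by
    by_contra hc
    have : m = 0 := by omega
    subst this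
    omega
  have h3n : ¬ 3 ∣ 3 ^ m - 1 := by
    have h1 : 3 ∣ 3 ^ m := dvd_pow_self 3 (by omega)
    omega
  have two_of : ∀ {n d : ℕ}, n ∣ 3 ^ m - 1 → d.Prime → d ∣ n → d = 2 := by
    intro n d hn hd hdd'
    have hdd := hdd'.trans hn
    by_contra hne
    rcases Nat.lt_or_ge d 5 with h5 | h5
    · have h2 := hd.two_le
      have : d = 3 ∨ d = 4 := by omega
      rcases this with rfl | rfl
      · exact h3n hdd
      · exact absurd hd (by norm_num)
    · exact h d hd h5 hdd
  rcases Nat.even_or_odd m with ⟨j, hj⟩ | hodd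
  · -- `(3 ^ j - 1) (3 ^ j + 1)`
    right
    have hj1 : 1 ≤ j := by omega
    have hsq : 3 ^ m = 3 ^ j * 3 ^ j := by rw [hj, pow_add]
    have h1 : 1 ≤ 3 ^ j := Nat.one_le_pow _ _ (by norm_num)
    have hfac : 3 ^ m - 1 = (3 ^ j - 1) * (3 ^ j + 1) := by
      rw [hsq]
      obtain ⟨t, ht⟩ : ∃ t, 3 ^ j = t + 1 := ⟨3 ^ j - 1, by omega⟩
      rw [ht]
      simp only [Nat.add_sub_cancel]
      have : (t + 1) * (t + 1) = t * (t + 1 + 1) + 1 := by ring
      omega
    have h3j : 3 ≤ 3 ^ j := by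
      calc 3 = 3 ^ 1 := (pow_one 3).symm
        _ ≤ 3 ^ j := Nat.pow_le_pow_right (by norm_num) hj1
    obtain ⟨a, ha⟩ : ∃ a, 3 ^ j - 1 = 2 ^ a := ⟨_, Nat.eq_prime_pow_of_unique_prime_dvd (by omega)
      (fun hd hdd => two_of (n := 3 ^ j - 1) ⟨_, hfac⟩ hd hdd)⟩
    obtain ⟨b, hb⟩ : ∃ b, 3 ^ j + 1 = 2 ^ b := ⟨_, Nat.eq_prime_pow_of_unique_prime_dvd (by omega)
      (fun hd hdd => two_of (n := 3 ^ j + 1) ⟨3 ^ j - 1, by rw [hfac, mul_comm]⟩ hd hdd)⟩
    -- two powers of two differing by two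
    have hba : 2 ^ b = 2 ^ a + 2 := by omega
    have ha1 : a = 1 := by
      rcases Nat.lt_or_ge a 2 with h5 | h5
      · have : a = 0 ∨ a = 1 := by omega
        rcases this with rfl | rfl
        · omega
        · rfl
      · exfalso
        have hb2 : 2 ≤ b := by
          by_contra hc
          have : b = 0 ∨ b = 1 := by omega
          rcases this with rfl | rfl <;> omega
        have h6 : 4 ∣ 2 ^ a := by
          obtain ⟨k, rfl⟩ : ∃ k, a = k + 2 := ⟨a - 2, by omega⟩
          exact ⟨2 ^ k, by rw [pow_add]; ring⟩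
        have h7 : 4 ∣ 2 ^ b := by
          obtain ⟨k, rfl⟩ : ∃ k, b = k + 2 := ⟨b - 2, by omega⟩
          exact ⟨2 ^ k, by rw [pow_add]; ring⟩
        omega
    rw [ha1] at ha
    have : 3 ^ j = 3 := by omega
    rw [hsq, this]
  · left
    obtain ⟨a, ha⟩ : ∃ a, 3 ^ m - 1 = 2 ^ a := ⟨_, Nat.eq_prime_pow_of_unique_prime_dvd (by omega)
      (fun hd hdd => two_of dvd_rfl hd hdd)⟩
    have h4 : 3 ^ m % 4 = 3 := by
      obtain ⟨j, rfl⟩ := hodd
      have : ∀ j : ℕ, 3 ^ (2 * j + 1) % 4 = 3 := by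
        intro j
        induction j with
        | zero => rfl
        | succ j ih =>
          have : 3 ^ (2 * (j + 1) + 1) = 9 * 3 ^ (2 * j + 1) := by rw [show 2 * (j + 1) + 1 = 2 + (2 * j + 1) by ring, pow_add]; norm_num
          rw [this]
          omega
      exact this j
    rcases Nat.lt_or_ge a 2 with h5 | h5
    · have : a = 0 ∨ a = 1 := by omega
      rcases this with rfl | rfl <;> omega
    · exfalso
      have h6 : 4 ∣ 2 ^ a := by
        obtain ⟨k, rfl⟩ : ∃ k, a = k + 2 := ⟨a - 2, by omega⟩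
        exact ⟨2 ^ k, by rw [pow_add]; ring⟩
      omega

/-- **the row `PSU_3(q)`, `q ≥ 3`** -/
theorem pp_psu_three_all {F : Type u} [Field F] [Fintype F] {q : ℕ} (hq : 3 ≤ q) (hF : Fintype.card F = q ^ 2) :
    H494.TC.PP (PSU 3 F q) := by
  by_cases hr : ∃ r : ℕ, r.Prime ∧ 5 ≤ r ∧ r ∣ q - 1
  · obtain ⟨r, hr, h5, hd⟩ := hr
    exact Cfsg.Agent.H950.TC.pp_psu_three hF hr h5 hd
  · push Not at hr
    obtain ⟨p, hc⟩ := CharP.exists F
    have hp : p.Prime := (CharP.char_is_prime_or_zero F p).resolve_right (CharP.char_ne_zero_of_finite F p)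
    have : Fact p.Prime := ⟨hp⟩
    obtain ⟨a, -, ha⟩ := FiniteField.card F p
    have hqd : q ∣ p ^ (a : ℕ) := by
      rw [← ha, hF]
      exact Dvd.intro_left (q ^ (2 - 1)) (by ring)
    obtain ⟨m, -, hm⟩ := (Nat.dvd_prime_pow hp).1 hqd
    rcases Nat.lt_or_ge p 5 with h5 | h5
    · have h2 := hp.two_le
      have h23 : p = 2 ∨ p = 3 ∨ p = 4 := by omega
      rcases h23 with rfl | rfl | rfl
      · have h4 := two_pow_case (m := m) (by omega) (fun r h1 h2 h3 => hr r h1 h2 (by rw [hm]; exact h3))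
        rw [h4] at hm
        subst hm
        exact pp_psu_three_four hF
      · rcases three_pow_case (m := m) (by omega) (fun r h1 h2 h3 => hr r h1 h2 (by rw [hm]; exact h3)) with h4 | h4
        · rw [h4] at hm
          subst hm
          exact pp_psu_three_three hF
        · rw [h4] at hm
          subst hm
          exact pp_psu_three_nine hF
      · exact absurd hp (by norm_num)
    · exact pp_psu_three_six hF hp h5

end Cfsg.Agent.H3.TC
end

private theorem dce_9c3e4352676a : _root_.True := by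
  try have : _root_.True := by simp only [_root_.Cfsg.Agent.H910.TC.mC.eq_1]
  try have : _root_.True := by simp only [_root_.Cfsg.Agent.H910.TC.toM.eq_1]
  try have : _root_.True := by simp only [_root_.Cfsg.Agent.H812.TC.SpSplit.ch.eq_1]
  try have : _root_.True := by simp only [_root_.Cfsg.Agent.H910.TC.ok5.eq_1]
  try have : _root_.True := by simp only [_root_.Cfsg.Agent.H910.TC.gL.eq_1]
  try have : _root_.True := by simp only [_root_.Cfsg.Agent.H910.TC.chk.eq_1]
  try have : _root_.True := by simp only [_root_.Cfsg.Agent.H910.TC.mX.eq_1]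
  try have : _root_.True := by simp only [_root_.Cfsg.Agent.H156.SqBlk.JJ.eq_1]
  try have : _root_.True := by simp only [_root_.Cfsg.Agent.H910.TC.mul4.eq_1]
  exact _root_.True.intro
end

-- part: H126/TC/SpEven
section
prune_inst 0x100031040500100000000002a20000400000000200480000400002000140c80009028800302011101022000000080008110000000200000000000000000100001000000080480100000006000000000000000000000000000000000000000000000000000
set_option linter.all false
open scoped Cfsg.Agent.FastGrp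

-- part: H126/TC/OEight
section
/-!
# `Ω₈⁻(2)` : every nontrivial element is a product of two conjugates of an element of order seven (helper126)
-/

set_option autoImplicit false
set_option linter.unusedSectionVars false
set_option linter.dupNamespace false

namespace Cfsg.Agent.H126.TC

open Module QuadraticMap Matrix Polynomial Cfsg.Agent.LieClassical.OrthCore Cfsg.Agent.LieClassical.OrthTrans
  Cfsg.Agent.LieClassical.OrthFinite Cfsg.Agent.LieClassical.OrthForms Cfsg.Agent.H140.OreO Cfsg.Agent.H126.PwO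
  Cfsg.Agent.H962.PP Cfsg.Agent.H141.SpinFacts Cfsg.Agent.H140.TC
open Cfsg.Agent.H434.Corn (MaxTS)

variable {F V : Type*} [Field F] [AddCommGroup V] [Module F V] {Q : QuadraticForm F V}

/-! ### the two irreducible cubics -/

/-! ### conjugacy of Levi elements -/

theorem ti_ti {n : ℕ} (X : GL (Fin n) F) : ti (ti X) = X := by
  apply Units.ext
  rw [ti_coe]
  have : ((ti X)⁻¹ : GL (Fin n) F) = ti X⁻¹ := (ti_inv X).symm
  rw [this, ti_coe, inv_inv, transpose_transpose]

end Cfsg.Agent.H126.TC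
end

-- part: H126/TC/SpSq
section
/-!
# S2464, S2452: symplectic groups, products `lo * up` (helper126)

One class `x` of elements of prime order `≥ 5`: every product `lo T * up S` (with `T₀₀ = S₀₀ = 0` if `n` is even)
is a product of two conjugates of `x`.  In characteristic two this gives all `PSp_2n(q)`, `n ≥ 3`.
-/

set_option autoImplicit false
set_option linter.unusedSectionVars false

namespace Cfsg.Agent.H126.TC.Sp

open Module Matrix Polynomial Cfsg.Agent.H962.PP Cfsg.Agent.H126.PwO Cfsg.Agent.H140.OreO Cfsg.Agent.H140.TC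
  Cfsg.Agent.H140.TC.Sp Cfsg.Agent.H126.TC

variable {F : Type*} [Field F] {n m : ℕ}

/-! ### the Weyl element -/

/-- the Weyl element -/
def wJ (n : ℕ) (F : Type*) [Field F] : G n F := ⟨J (Fin n) F, SymplecticGroup.J_mem (Fin n) F⟩

theorem wJ_coe : ((wJ n F : G n F) : Matrix (Fin n ⊕ Fin n) (Fin n ⊕ Fin n) F) = fromBlocks 0 (-1) 1 0 := rfl

theorem wJ_inv_coe : (((wJ n F)⁻¹ : G n F) : Matrix (Fin n ⊕ Fin n) (Fin n ⊕ Fin n) F) = fromBlocks 0 1 (-1) 0 := by
  have h1 : ((wJ n F * (wJ n F)⁻¹ : G n F) : Matrix (Fin n ⊕ Fin n) (Fin n ⊕ Fin n) F) = 1 := by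
    rw [mul_inv_cancel]; rfl
  have h2 : (fromBlocks 0 1 (-1) 0 : Matrix (Fin n ⊕ Fin n) (Fin n ⊕ Fin n) F) * fromBlocks 0 (-1) 1 0 = 1 := by
    rw [fromBlocks_multiply]
    simp
  calc (((wJ n F)⁻¹ : G n F) : Matrix (Fin n ⊕ Fin n) (Fin n ⊕ Fin n) F) =
      fromBlocks 0 1 (-1) 0 * ((wJ n F * (wJ n F)⁻¹ : G n F) : Matrix (Fin n ⊕ Fin n) (Fin n ⊕ Fin n) F) := by
        rw [Submonoid.coe_mul, wJ_coe, ← Matrix.mul_assoc, h2, Matrix.one_mul]
    _ = _ := by rw [h1, Matrix.mul_one]

theorem wJ_blocks {g : G n F} {A B C D : Matrix (Fin n) (Fin n) F} (h : (g : Matrix _ _ F) = fromBlocks A B C D) :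
    ((wJ n F * g * (wJ n F)⁻¹ : G n F) : Matrix _ _ F) = fromBlocks D (-C) (-B) A := by
  rw [Submonoid.coe_mul, Submonoid.coe_mul, wJ_inv_coe, wJ_coe, h, fromBlocks_multiply, fromBlocks_multiply]
  simp

theorem wJ_lo {T : Matrix (Fin n) (Fin n) F} (hT : Tᵀ = T) :
    wJ n F * lo T hT * (wJ n F)⁻¹ = up (-T) (by rw [transpose_neg, hT]) := by
  apply Subtype.ext
  rw [wJ_blocks (lo_coe T hT), up_coe, neg_zero]

theorem ti_ti' (X : GL (Fin n) F) : ti (ti X) = X := H126.TC.ti_ti X

theorem wJ_lv (X : GL (Fin n) F) : wJ n F * lv X * (wJ n F)⁻¹ = lv (ti X) := by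
  apply Subtype.ext
  rw [wJ_blocks (lv_coe X), lv_coe, neg_zero]
  have h1 : (((ti X)⁻¹ : GL (Fin n) F) : Matrix (Fin n) (Fin n) F)ᵀ = (X : Matrix (Fin n) (Fin n) F) := by
    rw [← ti_inv, ti_coe, inv_inv, transpose_transpose]
  rw [h1, ti_coe]

theorem wJ_em (B : GL (Fin m) F) : wJ (m + 1) F * _root_.Cfsg.Agent.H140.TC.Sp.em (1, B) * (wJ (m + 1) F)⁻¹ = _root_.Cfsg.Agent.H140.TC.Sp.em (1, ti B) := by
  apply Subtype.ext
  rw [wJ_blocks (em_coe 1 B), em_coe]
  have h0 : (blk (0 : F) (0 : Matrix (Fin m) (Fin m) F)) = 0 := blk_zero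
  simp only [h0, ti_ti', _root_.Fin.isValue, _root_.Matrix.SpecialLinearGroup.coe_one, _root_.Matrix.one_apply_eq, _root_.ne_eq, _root_.one_ne_zero, _root_.not_false_eq_true, _root_.Matrix.one_apply_ne, _root_.neg_zero, _root_.zero_ne_one]

/-! ### the dual of an irreducible matrix -/

theorem rev_facts {f : F[X]} {d : ℕ} (hd : f.natDegree = d) (h : Irreducible f) (h0 : f.coeff 0 ≠ 0) :
    Irreducible (C (f.coeff 0)⁻¹ * f.reverse) ∧ (C (f.coeff 0)⁻¹ * f.reverse).Monic ∧
      (C (f.coeff 0)⁻¹ * f.reverse).natDegree = d := by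
  have hu : IsUnit (C (f.coeff 0)⁻¹ : F[X]) := isUnit_C.2 (inv_ne_zero h0).isUnit
  have hlc : f.reverse.leadingCoeff = f.coeff 0 := by
    rw [reverse_leadingCoeff, trailingCoeff, natTrailingDegree_eq_zero_of_constantCoeff_ne_zero h0]
  exact ⟨(irreducible_isUnit_mul hu).2 (irreducible_rev h h0), by
    rw [Monic, leadingCoeff_mul, leadingCoeff_C, hlc, inv_mul_cancel₀ h0], by
    rw [natDegree_C_mul (inv_ne_zero h0), natDegree_rev h0, hd]⟩

theorem charpoly_ti (hm : 2 ≤ m) {B : GL (Fin m) F} (h : Irreducible (B : Matrix (Fin m) (Fin m) F).charpoly) :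
    (ti B : Matrix (Fin m) (Fin m) F).charpoly =
      C ((B : Matrix (Fin m) (Fin m) F).charpoly.coeff 0)⁻¹ * (B : Matrix (Fin m) (Fin m) F).charpoly.reverse := by
  have hd : (B : Matrix (Fin m) (Fin m) F).charpoly.natDegree = m := by
    rw [charpoly_natDegree_eq_dim, Fintype.card_fin]
  obtain ⟨hirr, hmon, hdeg⟩ := rev_facts hd h (coeff_zero_ne h (by omega))
  have h1 : minpoly F (ti B : Matrix (Fin m) (Fin m) F) = C ((B : Matrix (Fin m) (Fin m) F).charpoly.coeff 0)⁻¹ *
      (B : Matrix (Fin m) (Fin m) F).charpoly.reverse := by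
    have hne : NeZero m := ⟨by omega⟩
    exact (minpoly.eq_of_irreducible_of_monic hirr (by rw [map_mul, aeval_ti_reverse, mul_zero]) hmon).symm
  have h2 := Matrix.minpoly_dvd_charpoly (ti B : Matrix (Fin m) (Fin m) F)
  rw [h1] at h2
  refine (eq_of_monic_of_dvd_of_natDegree_le hmon (charpoly_monic _) h2 ?_)
  rw [hdeg, charpoly_natDegree_eq_dim, Fintype.card_fin]

theorem rp_ti (hm : 2 ≤ m) {B : GL (Fin m) F} (h : RP m (B : Matrix (Fin m) (Fin m) F).charpoly) :
    RP m (ti B : Matrix (Fin m) (Fin m) F).charpoly := by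
  have h0 := h.coeff_ne hm
  have hu : IsUnit (C ((B : Matrix (Fin m) (Fin m) F).charpoly.coeff 0)⁻¹ : F[X]) :=
    isUnit_C.2 (inv_ne_zero h0).isUnit
  refine ⟨charpoly_monic _, ?_, by rw [charpoly_natDegree_eq_dim, Fintype.card_fin], ?_⟩
  · rw [charpoly_ti hm h.irr]
    exact (irreducible_isUnit_mul hu).2 (irreducible_rev h.irr h0)
  · rw [charpoly_ti hm h.irr, reverse_mul_of_domain, rev_rev h0, reverse_C]
    exact (isCoprime_mul_unit_left_left hu _ _).2 ((isCoprime_mul_unit_left_right hu _ _).2 h.cop.symm)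

theorem conj_transpose (hm : 1 ≤ m) {B : GL (Fin m) F} (h : Irreducible (B : Matrix (Fin m) (Fin m) F).charpoly) :
    ∃ P : GL (Fin m) F, ti B⁻¹ = P * B * P⁻¹ := by
  have hB : Cyc (B : Matrix (Fin m) (Fin m) F) := cyc_of_irr hm h
  have hc : (ti B⁻¹ : Matrix (Fin m) (Fin m) F) = (B : Matrix (Fin m) (Fin m) F)ᵀ := by
    rw [ti_coe, inv_inv]
  have hB' : Cyc (ti B⁻¹ : Matrix (Fin m) (Fin m) F) := cyc_of_irr hm (by rw [hc, charpoly_transpose]; exact h)
  obtain ⟨P, hP, hPe⟩ := conj_of_cyc hB hB' (by rw [hc, charpoly_transpose])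
  obtain ⟨P', rfl⟩ : ∃ P' : GL (Fin m) F, (P' : Matrix _ _ F) = P :=
    ⟨Matrix.GeneralLinearGroup.mkOfDetNeZero P hP.ne_zero, rfl⟩
  refine ⟨P', Units.ext ?_⟩
  rw [hPe, Units.val_mul, Units.val_mul, Matrix.coe_units_inv]

/-! ### inverses -/

theorem isConj_inv {G : Type*} [Group G] {a b : G} (h : IsConj a b) : IsConj a⁻¹ b⁻¹ := by
  obtain ⟨c, hc⟩ := isConj_iff.1 h
  exact isConj_iff.2 ⟨c, by rw [← hc]; group⟩

theorem isConj_comm {G : Type*} [Group G] (a b : G) : IsConj (a * b) (b * a) :=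
  isConj_iff.2 ⟨b, by group⟩

theorem em_inv_conj (hm : 1 ≤ m) {B : GL (Fin m) F} (h : Irreducible (B : Matrix (Fin m) (Fin m) F).charpoly) :
    IsConj (_root_.Cfsg.Agent.H140.TC.Sp.em (1, B) : G (m + 1) F) (_root_.Cfsg.Agent.H140.TC.Sp.em (1, B))⁻¹ := by
  obtain ⟨P, hP⟩ := conj_transpose hm h
  have h1 : IsConj (_root_.Cfsg.Agent.H140.TC.Sp.em (1, B) : G (m + 1) F) (_root_.Cfsg.Agent.H140.TC.Sp.em (1, ti B⁻¹)) := by
    refine (isConj_iff.2 ⟨_root_.Cfsg.Agent.H140.TC.Sp.em (1, P), ?_⟩ :)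
    rw [← map_inv, ← map_mul, ← map_mul, hP]
    congr 1
    ext1
    · simp only [_root_.Prod.mk_mul_mk, _root_.mul_one, _root_.Prod.inv_mk, _root_.inv_one]
    · rfl
  have h2 : IsConj ((_root_.Cfsg.Agent.H140.TC.Sp.em (1, B))⁻¹ : G (m + 1) F) (_root_.Cfsg.Agent.H140.TC.Sp.em (1, ti B⁻¹)) := by
    refine isConj_iff.2 ⟨wJ (m + 1) F, ?_⟩
    rw [← wJ_em, ← map_inv, Prod.inv_mk, inv_one]
  exact h1.trans h2.symm

theorem lv_inv_conj (hn : 1 ≤ n) {X : GL (Fin n) F} (h : Irreducible (X : Matrix (Fin n) (Fin n) F).charpoly) :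
    IsConj (lv X : G n F) (lv X)⁻¹ := by
  obtain ⟨P, hP⟩ := conj_transpose hn h
  have h1 : IsConj (lv X : G n F) (lv (ti X⁻¹)) :=
    isConj_iff.2 ⟨lv P, by rw [← map_inv, ← map_mul, ← map_mul, hP]⟩
  have h2 : IsConj ((lv X)⁻¹ : G n F) (lv (ti X⁻¹)) :=
    isConj_iff.2 ⟨wJ n F, by rw [← wJ_lv, ← map_inv]⟩
  exact h1.trans h2.symm

section Fin

variable [Finite F]

theorem em_up (hm : 2 ≤ m) {B : GL (Fin m) F} (h : RP m (B : Matrix (Fin m) (Fin m) F).charpoly)
    {S : Matrix (Fin (m + 1)) (Fin (m + 1)) F} (hS : Sᵀ = S) (hS0 : S 0 0 = 0) :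
    IsConj (_root_.Cfsg.Agent.H140.TC.Sp.em (1, B)) (_root_.Cfsg.Agent.H140.TC.Sp.em (1, B) * up S hS) := by
  obtain ⟨r, hr⟩ := conj_em_up (M := 1) h.cop (by
    have h1 : ((1 : _root_.Matrix.SpecialLinearGroup (Fin 2) F) : Matrix (Fin 2) (Fin 2) F) = 1 := rfl
    rw [h1, Matrix.charpoly_one]
    refine IsCoprime.pow_right (IsCoprime.symm ?_)
    rw [← C_1, (irreducible_X_sub_C (1 : F)).coprime_iff_not_dvd, dvd_iff_isRoot]
    exact h.eval_ne hm 1) hS hS0
  exact isConj_iff.2 ⟨r, hr.symm⟩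

theorem em_lo (hm : 2 ≤ m) {B : GL (Fin m) F} (h : RP m (B : Matrix (Fin m) (Fin m) F).charpoly)
    {T : Matrix (Fin (m + 1)) (Fin (m + 1)) F} (hT : Tᵀ = T) (hT0 : T 0 0 = 0) :
    IsConj (_root_.Cfsg.Agent.H140.TC.Sp.em (1, B)) (lo T hT * _root_.Cfsg.Agent.H140.TC.Sp.em (1, B)) := by
  have h1 := em_up hm (rp_ti hm h) (S := -T) (by rw [transpose_neg, hT]) (by rw [Matrix.neg_apply, hT0, neg_zero])
  have h2 : IsConj (_root_.Cfsg.Agent.H140.TC.Sp.em (1, B) : G (m + 1) F) (_root_.Cfsg.Agent.H140.TC.Sp.em (1, ti B)) := isConj_iff.2 ⟨wJ (m + 1) F, wJ_em B⟩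
  have h3 : IsConj (_root_.Cfsg.Agent.H140.TC.Sp.em (1, B) * lo T hT) (_root_.Cfsg.Agent.H140.TC.Sp.em (1, ti B) * up (-T) (by rw [transpose_neg, hT])) := by
    refine isConj_iff.2 ⟨wJ (m + 1) F, ?_⟩
    rw [← wJ_em, ← wJ_lo hT]
    group
  exact (h2.trans (h1.trans h3.symm)).trans (isConj_comm _ _)

/-- **`n = m + 1`** -/
theorem sq_em (hm : 2 ≤ m) {B : GL (Fin m) F} (h : RP m (B : Matrix (Fin m) (Fin m) F).charpoly)
    {T S : Matrix (Fin (m + 1)) (Fin (m + 1)) F} (hT : Tᵀ = T) (hS : Sᵀ = S) (hT0 : T 0 0 = 0) (hS0 : S 0 0 = 0) :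
    ∃ u v : G (m + 1) F, lo T hT * up S hS = (u * _root_.Cfsg.Agent.H140.TC.Sp.em (1, B) * u⁻¹) * (v * _root_.Cfsg.Agent.H140.TC.Sp.em (1, B) * v⁻¹) := by
  obtain ⟨u, hu⟩ := isConj_iff.1 (em_lo hm h hT hT0)
  have hS' : (-S)ᵀ = -S := by rw [transpose_neg, hS]
  have hi : up S hS = (up (-S) hS')⁻¹ := by
    rw [up_inv]
    exact up_congr _ (neg_neg S).symm
  have h1 : IsConj (_root_.Cfsg.Agent.H140.TC.Sp.em (1, B)) (up (-S) hS' * _root_.Cfsg.Agent.H140.TC.Sp.em (1, B)) :=
    (em_up hm h hS' (by rw [Matrix.neg_apply, hS0, neg_zero])).trans (isConj_comm _ _)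
  have h2 := (em_inv_conj (by omega) h.irr).trans (isConj_inv h1)
  rw [_root_.mul_inv_rev, ← hi] at h2
  obtain ⟨v, hv⟩ := isConj_iff.1 h2
  refine ⟨u, v, ?_⟩
  rw [hu, hv]
  group

/-- **the Siegel Levi subgroup** -/
theorem sq_lv (hn : 2 ≤ n) {X : GL (Fin n) F} (h : RP n (X : Matrix (Fin n) (Fin n) F).charpoly)
    {T S : Matrix (Fin n) (Fin n) F} (hT : Tᵀ = T) (hS : Sᵀ = S) :
    ∃ u v : G n F, lo T hT * up S hS = (u * lv X * u⁻¹) * (v * lv X * v⁻¹) := by
  obtain ⟨r, hr⟩ := conj_lo_lv h.cop (lo_mem hT) (one_mem _)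
  obtain ⟨s, hs⟩ := conj_up_lv h.cop (inv_mem (up_mem hS)) (one_mem _)
  rw [mul_one] at hr hs
  obtain ⟨c, hc⟩ := isConj_iff.1 (lv_inv_conj (by omega) h.irr)
  refine ⟨r, s * c, ?_⟩
  have hs' : (lv X)⁻¹ * up S hS = s * (lv X)⁻¹ * s⁻¹ := by
    have := congrArg (fun x => x⁻¹) hs
    simp only [_root_.mul_inv_rev, inv_inv] at this
    rw [this]
    group
  have h3 : (s * c) * lv X * (s * c)⁻¹ = (lv X)⁻¹ * up S hS := by
    rw [hs', ← hc]
    group
  rw [h3, ← hr]
  group

end Fin

end Cfsg.Agent.H126.TC.Sp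
end

-- part: H126/TC/SpEven
section
/-!
# S2464, S2452: `PSp_2n(q)`, `q` even, `n ≥ 3` (helper126)

`pp_psp_even` : one class of elements of prime order `≥ 5`.
-/

set_option autoImplicit false
set_option linter.unusedSectionVars false

namespace Cfsg.Agent.H126.TC.Sp

open Module Matrix Polynomial Cfsg.Agent.H962.PP Cfsg.Agent.H126.PwO Cfsg.Agent.H140.OreO Cfsg.Agent.H140.TC
  Cfsg.Agent.H140.TC.Sp Cfsg.Agent.H126.TC

variable {F : Type*} [Field F] {n m : ℕ}

/-! ### bases adapted to a vector and a covector -/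

theorem exists_adapted {a b : Fin (m + 1) → F} (h : b ⬝ᵥ a = 1) : ∃ P : GL (Fin (m + 1)) F,
    ((P⁻¹ : GL (Fin (m + 1)) F) : Matrix (Fin (m + 1)) (Fin (m + 1)) F) *ᵥ Pi.single 0 1 = a ∧
      (Pi.single 0 1 : Fin (m + 1) → F) ᵥ* (P : Matrix (Fin (m + 1)) (Fin (m + 1)) F) = b := by
  classical
  let φ : (Fin (m + 1) → F) →ₗ[F] F :=
    { toFun := fun v => b ⬝ᵥ v
      map_add' := fun x y => dotProduct_add b x y
      map_smul' := fun c x => dotProduct_smul c b x }
  have hφ : ∀ v, φ v = b ⬝ᵥ v := fun v => rfl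
  have hr : LinearMap.range φ = ⊤ := by
    rw [LinearMap.range_eq_top]
    intro c
    exact ⟨c • a, by rw [map_smul, hφ, h, smul_eq_mul, mul_one]⟩
  have hk : finrank F (LinearMap.ker φ) = m := by
    have h1 := φ.finrank_range_add_finrank_ker
    rw [hr, finrank_top, finrank_self, Module.finrank_fintype_fun_eq_card, Fintype.card_fin] at h1
    omega
  let w : Basis (Fin m) F (LinearMap.ker φ) := finBasisOfFinrankEq F _ hk
  obtain ⟨N, hN⟩ : ∃ N : Matrix (Fin (m + 1)) (Fin (m + 1)) F,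
      N = Matrix.of fun i j => (Fin.cons a (fun i => ((w i : LinearMap.ker φ) : Fin (m + 1) → F)) :
        Fin (m + 1) → (Fin (m + 1) → F)) j i := ⟨_, rfl⟩
  have hcol : ∀ j, N.col j = (Fin.cons a (fun i => ((w i : LinearMap.ker φ) : Fin (m + 1) → F)) :
        Fin (m + 1) → (Fin (m + 1) → F)) j := by
    intro j
    rw [hN]
    rfl
  have hLI : LinearIndependent F (Fin.cons a (fun i => ((w i : LinearMap.ker φ) : Fin (m + 1) → F)) :
        Fin (m + 1) → (Fin (m + 1) → F)) := by
    rw [linearIndependent_finCons]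
    refine ⟨?_, ?_⟩
    · exact w.linearIndependent.map' (LinearMap.ker φ).subtype (Submodule.ker_subtype _)
    · intro ha
      have h1 : Submodule.span F (Set.range fun i => ((w i : LinearMap.ker φ) : Fin (m + 1) → F)) ≤
          LinearMap.ker φ := by
        rw [Submodule.span_le]
        rintro _ ⟨i, rfl⟩
        exact (w i).2
      have h2 := h1 ha
      rw [LinearMap.mem_ker, hφ, h] at h2
      exact one_ne_zero h2
  have hU : IsUnit N := by
    rw [← Matrix.linearIndependent_cols_iff_isUnit]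
    have : N.col = (Fin.cons a (fun i => ((w i : LinearMap.ker φ) : Fin (m + 1) → F)) :
        Fin (m + 1) → (Fin (m + 1) → F)) := _root_.funext hcol
    rw [this]
    exact hLI
  obtain ⟨N', hN'⟩ := hU
  have hb : b ᵥ* N = Pi.single 0 1 := by
    ext j
    have h1 : (b ᵥ* N) j = b ⬝ᵥ N.col j := rfl
    rw [h1, hcol]
    refine Fin.cases ?_ (fun j => ?_) j
    · rw [Fin.cons_zero, h, Pi.single_eq_same]
    · rw [Fin.cons_succ, Pi.single_eq_of_ne (Fin.succ_ne_zero j)]
      have h2 := (w j).2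
      rwa [LinearMap.mem_ker, hφ] at h2
  refine ⟨N'⁻¹, ?_, ?_⟩
  · rw [inv_inv, hN', Matrix.mulVec_single_one, hcol, Fin.cons_zero]
  · rw [← hb, Matrix.vecMul_vecMul, ← hN', ← Units.val_mul, mul_inv_cancel, Units.val_one, Matrix.vecMul_one]

/-- `lo * up` with an isotropic vector and an isotropic covector -/
theorem sq_of_ab [Finite F] (hm : 2 ≤ m) {B : GL (Fin m) F} (h : RP m (B : Matrix (Fin m) (Fin m) F).charpoly)
    {T S : Matrix (Fin (m + 1)) (Fin (m + 1)) F} (hT : Tᵀ = T) (hS : Sᵀ = S) {a b : Fin (m + 1) → F}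
    (hab : b ⬝ᵥ a = 1) (ha : a ⬝ᵥ (T *ᵥ a) = 0) (hb : b ⬝ᵥ (S *ᵥ b) = 0) :
    ∃ u v : G (m + 1) F, lo T hT * up S hS = (u * _root_.Cfsg.Agent.H140.TC.Sp.em (1, B) * u⁻¹) * (v * _root_.Cfsg.Agent.H140.TC.Sp.em (1, B) * v⁻¹) := by
  obtain ⟨P, hPa, hPb⟩ := exists_adapted hab
  have e1 := lv_lo P⁻¹ hT
  rw [map_inv, inv_inv] at e1
  have e2 := lv_up P hS
  have hz : ∀ (M : Matrix (Fin (m + 1)) (Fin (m + 1)) F), M 0 0 = (Pi.single 0 1 : Fin (m + 1) → F) ⬝ᵥ
      (M *ᵥ (Pi.single 0 1 : Fin (m + 1) → F)) := by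
    intro M
    rw [Matrix.mulVec_single_one, single_dotProduct, one_mul]
    rfl
  obtain ⟨u, v, e⟩ := sq_em hm h
    (T := ((P⁻¹ : GL (Fin (m + 1)) F) : Matrix _ _ F)ᵀ * T * ((P⁻¹ : GL (Fin (m + 1)) F) : Matrix _ _ F))
    (S := (P : Matrix _ _ F) * S * (P : Matrix _ _ F)ᵀ)
    (by simp only [transpose_mul, transpose_transpose, hT, Matrix.mul_assoc])
    (by simp only [transpose_mul, transpose_transpose, hS, Matrix.mul_assoc])
    (by
      refine (hz _).trans ?_
      rw [← Matrix.mulVec_mulVec, ← Matrix.mulVec_mulVec, hPa, Matrix.mulVec_transpose, dotProduct_comm,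
        ← Matrix.dotProduct_mulVec, hPa, dotProduct_comm]
      exact ha)
    (by
      refine (hz _).trans ?_
      rw [← Matrix.mulVec_mulVec, ← Matrix.mulVec_mulVec, Matrix.dotProduct_mulVec, hPb, Matrix.mulVec_transpose,
        hPb]
      exact hb)
  refine ⟨(lv P)⁻¹ * u, (lv P)⁻¹ * v, ?_⟩
  have e3 : lo T hT * up S hS = (lv P)⁻¹ * ((lv P * lo T hT * (lv P)⁻¹) * (lv P * up S hS * (lv P)⁻¹)) * lv P := by
    group
  rw [e3, e1, e2]
  have e4 := e
  rw [e4]
  group

/-! ### characteristic two -/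

theorem quad_two (h2 : (2 : F) = 0) {S : Matrix (Fin n) (Fin n) F} (hS : Sᵀ = S) (b : Fin n → F) :
    b ⬝ᵥ (S *ᵥ b) = ∑ k, b k ^ 2 * S k k := by
  classical
  have hsym : ∀ x y : Fin n → F, x ⬝ᵥ (S *ᵥ y) = y ⬝ᵥ (S *ᵥ x) := by
    intro x y
    rw [Matrix.dotProduct_mulVec, dotProduct_comm, ← Matrix.mulVec_transpose, hS]
  let φ : (Fin n → F) →+ F :=
    { toFun := fun x => x ⬝ᵥ (S *ᵥ x)
      map_zero' := by simp only [_root_.Matrix.mulVec_zero, _root_.dotProduct_zero]
      map_add' := fun x y => by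
        rw [Matrix.mulVec_add, dotProduct_add, add_dotProduct, add_dotProduct, hsym y x]
        linear_combination (x ⬝ᵥ (S *ᵥ y)) * h2 }
  have h1 : φ b = b ⬝ᵥ (S *ᵥ b) := rfl
  rw [← h1]
  conv_lhs => rw [← Finset.univ_sum_single b]
  rw [map_sum]
  refine Finset.sum_congr rfl fun k _ => ?_
  show (Pi.single k (b k) : Fin n → F) ⬝ᵥ (S *ᵥ (Pi.single k (b k) : Fin n → F)) = _
  rw [single_dotProduct, Matrix.mulVec_single]
  simp only [Pi.smul_apply, Matrix.col_apply, MulOpposite.smul_eq_mul_unop, MulOpposite.unop_op]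
  ring

theorem exists_sqrt [Finite F] (h2 : (2 : F) = 0) {S : Matrix (Fin n) (Fin n) F} (hS : Sᵀ = S) :
    ∃ s : Fin n → F, ∀ b : Fin n → F, s ⬝ᵥ b = 0 → b ⬝ᵥ (S *ᵥ b) = 0 := by
  have : Fintype F := Fintype.ofFinite F
  have hc : CharP F 2 := CharTwo.of_one_ne_zero_of_two_eq_zero one_ne_zero h2
  have hsq : ∀ k, ∃ x : F, S k k = x ^ 2 := fun k => by
    obtain ⟨x, hx⟩ := FiniteField.isSquare_of_char_two (ringChar.eq F 2) (S k k)
    exact ⟨x, by rw [hx, sq]⟩
  choose s hs using hsq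
  refine ⟨s, fun b hb => ?_⟩
  rw [quad_two h2 hS]
  have h1 : ∑ k, b k ^ 2 * S k k = (∑ k, s k * b k) ^ 2 := by
    rw [CharTwo.sum_sq]
    exact Finset.sum_congr rfl fun k _ => by rw [hs]; ring
  have h3 : ∑ k, s k * b k = 0 := hb
  rw [h1, h3]
  ring

theorem exists_cov {a s : Fin n → F} (h : ∀ c : F, a ≠ c • s) : ∃ b : Fin n → F, s ⬝ᵥ b = 0 ∧ b ⬝ᵥ a = 1 := by
  classical
  by_cases hs : s = 0
  · obtain ⟨i, hi⟩ : ∃ i, a i ≠ 0 := by
      by_contra hcon
      push Not at hcon
      exact h 0 (by rw [zero_smul]; exact _root_.funext hcon)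
    refine ⟨Pi.single i (a i)⁻¹, by rw [hs, zero_dotProduct], ?_⟩
    rw [single_dotProduct, inv_mul_cancel₀ hi]
  · obtain ⟨k, hk⟩ : ∃ k, s k ≠ 0 := by
      by_contra hcon
      push Not at hcon
      exact hs (_root_.funext hcon)
    obtain ⟨i, hi⟩ : ∃ i, a i ≠ (a k / s k) * s i := by
      by_contra hcon
      push Not at hcon
      exact h (a k / s k) (_root_.funext hcon)
    have hd : a i * s k - s i * a k ≠ 0 := by
      intro h0
      apply hi
      field_simp
      linear_combination h0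
    refine ⟨(a i * s k - s i * a k)⁻¹ • (Pi.single i (s k) - Pi.single k (s i)), ?_, ?_⟩
    · have h1 : s i * s k - s k * s i = 0 := by ring
      rw [dotProduct_smul, dotProduct_sub, dotProduct_single, dotProduct_single, h1, smul_zero]
    · rw [smul_dotProduct, sub_dotProduct, single_dotProduct, single_dotProduct, smul_eq_mul]
      rw [mul_comm (s k)]
      exact inv_mul_cancel₀ hd

theorem exists_iso (hn : 3 ≤ n) (t s : Fin n → F) : ∃ a : Fin n → F, t ⬝ᵥ a = 0 ∧ ∀ c : F, a ≠ c • s := by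
  classical
  by_contra hcon
  push Not at hcon
  by_cases ht : t = 0
  · obtain ⟨c, hc⟩ := hcon (Pi.single ⟨0, by omega⟩ 1) (by rw [ht, zero_dotProduct])
    obtain ⟨d, hd⟩ := hcon (Pi.single ⟨1, by omega⟩ 1) (by rw [ht, zero_dotProduct])
    have h1 := congrFun hc ⟨0, by omega⟩
    have h2 := congrFun hc ⟨1, by omega⟩
    have h3 := congrFun hd ⟨1, by omega⟩
    rw [Pi.single_eq_same, Pi.smul_apply, smul_eq_mul] at h1 h3
    rw [Pi.single_eq_of_ne (by simp [Fin.ext_iff]), Pi.smul_apply, smul_eq_mul] at h2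
    have hc0 : c ≠ 0 := by
      rintro rfl
      rw [zero_mul] at h1
      exact one_ne_zero h1
    have h4 : s ⟨1, by omega⟩ = 0 := (mul_eq_zero.1 h2.symm).resolve_left hc0
    rw [h4, mul_zero] at h3
    exact one_ne_zero h3
  · obtain ⟨k, hk⟩ : ∃ k, t k ≠ 0 := by
      by_contra hcon
      push Not at hcon
      exact ht (_root_.funext hcon)
    obtain ⟨i, j, hik, hjk, hij⟩ : ∃ i j : Fin n, i ≠ k ∧ j ≠ k ∧ i ≠ j := by
      have h3 : 1 < (Finset.univ.erase k).card := by
        rw [Finset.card_erase_of_mem (Finset.mem_univ _), Finset.card_univ, Fintype.card_fin]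
        omega
      obtain ⟨i, hi, j, hj, hij⟩ := Finset.one_lt_card.1 h3
      exact ⟨i, j, Finset.ne_of_mem_erase hi, Finset.ne_of_mem_erase hj, hij⟩
    have hz : ∀ l, t ⬝ᵥ (Pi.single l (t k) - Pi.single k (t l)) = 0 := by
      intro l
      rw [dotProduct_sub, dotProduct_single, dotProduct_single, mul_comm (t l), sub_self]
    obtain ⟨c, hc⟩ := hcon _ (hz i)
    obtain ⟨d, hd⟩ := hcon _ (hz j)
    have h1 := congrFun hc i
    have h2 := congrFun hc j
    have h3 := congrFun hd j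
    rw [Pi.sub_apply, Pi.single_eq_same, Pi.single_eq_of_ne hik, sub_zero, Pi.smul_apply, smul_eq_mul] at h1
    rw [Pi.sub_apply, Pi.single_eq_of_ne hij.symm, Pi.single_eq_of_ne hjk, sub_zero, Pi.smul_apply, smul_eq_mul] at h2
    rw [Pi.sub_apply, Pi.single_eq_same, Pi.single_eq_of_ne hjk, sub_zero, Pi.smul_apply, smul_eq_mul] at h3
    have hc0 : c ≠ 0 := by
      rintro rfl
      rw [zero_mul] at h1
      exact hk h1
    have h4 : s j = 0 := (mul_eq_zero.1 h2.symm).resolve_left hc0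
    rw [h4, mul_zero] at h3
    exact hk h3

/-- **characteristic two, `n = m + 1`** -/
theorem sq_char_two [Finite F] (h2 : (2 : F) = 0) (hm : 2 ≤ m) {B : GL (Fin m) F}
    (h : RP m (B : Matrix (Fin m) (Fin m) F).charpoly)
    {T S : Matrix (Fin (m + 1)) (Fin (m + 1)) F} (hT : Tᵀ = T) (hS : Sᵀ = S) :
    ∃ u v : G (m + 1) F, lo T hT * up S hS = (u * _root_.Cfsg.Agent.H140.TC.Sp.em (1, B) * u⁻¹) * (v * _root_.Cfsg.Agent.H140.TC.Sp.em (1, B) * v⁻¹) := by
  obtain ⟨t, ht⟩ := exists_sqrt h2 hT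
  obtain ⟨s, hs⟩ := exists_sqrt h2 hS
  obtain ⟨a, ha, has⟩ := exists_iso (show 3 ≤ m + 1 by omega) t s
  obtain ⟨b, hb, hab⟩ := exists_cov has
  exact sq_of_ab hm h hT hS hab (ht a ha) (hs b hb)

/-! ### the group `PSp` -/

theorem pp_of_sp {s : ℕ} (hs : s.Prime) (h5 : 5 ≤ s) {x : G n F} (hx : x ^ s = 1) (hxc : x ∉ Subgroup.center (G n F))
    (h : ∀ g : G n F, g ∉ Subgroup.center (G n F) → ∃ u v : G n F, g = (u * x * u⁻¹) * (v * x * v⁻¹)) :
    H494.TC.PP (Cfsg.PSp n F) := by
  have hne : (QuotientGroup.mk x : Cfsg.PSp n F) ≠ 1 := fun h1 => hxc ((QuotientGroup.eq_one_iff x).1 h1)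
  have hpow : (QuotientGroup.mk x : Cfsg.PSp n F) ^ s = 1 := by
    rw [← QuotientGroup.mk_pow, hx]
    rfl
  have hord : orderOf (QuotientGroup.mk x : Cfsg.PSp n F) = s := orderOf_eq_prime (hp := ⟨hs⟩) hpow hne
  refine ⟨QuotientGroup.mk x, by rw [hord]; exact hs, by rw [hord]; exact PwO.coprime_six hs h5, fun g hg => ?_⟩
  obtain ⟨g, rfl⟩ := QuotientGroup.mk_surjective g
  obtain ⟨u, v, e⟩ := h g (fun hc => hg ((QuotientGroup.eq_one_iff g).2 hc))
  refine ⟨QuotientGroup.mk u, QuotientGroup.mk v, ?_⟩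
  conv_lhs => rw [e]
  rfl

theorem not_central_em [Finite F] (hm : 2 ≤ m) {B : GL (Fin m) F}
    (h : RP m (B : Matrix (Fin m) (Fin m) F).charpoly) : _root_.Cfsg.Agent.H140.TC.Sp.em (1, B) ∉ Subgroup.center (G (m + 1) F) := by
  classical
  intro hc
  have i : Fin m := ⟨0, by omega⟩
  have hT : (Matrix.single i.succ i.succ (1 : F))ᵀ = Matrix.single i.succ i.succ 1 := by
    rw [Matrix.transpose_single]
  obtain ⟨u, hu⟩ := isConj_iff.1 (em_lo hm h hT (by
    rw [Matrix.single_apply_of_ne]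
    rintro ⟨h1, -⟩
    exact Fin.succ_ne_zero i h1))
  have h1 : u * _root_.Cfsg.Agent.H140.TC.Sp.em (1, B) * u⁻¹ = _root_.Cfsg.Agent.H140.TC.Sp.em (1, B) := by
    rw [Subgroup.mem_center_iff.1 hc u, mul_inv_cancel_right]
  rw [h1] at hu
  have h3 : lo (Matrix.single i.succ i.succ (1 : F)) hT = lo 0 transpose_zero := by
    rw [lo_zero]
    exact (mul_eq_right.1 hu.symm)
  have h4 := congrFun (congrFun (lo_inj h3) i.succ) i.succ
  rw [Matrix.single_apply_same, Matrix.zero_apply] at h4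
  exact one_ne_zero h4

theorem not_central_lv [Finite F] (hn : 2 ≤ n) {X : GL (Fin n) F}
    (h : RP n (X : Matrix (Fin n) (Fin n) F).charpoly) : lv X ∉ Subgroup.center (G n F) := by
  classical
  intro hc
  have i : Fin n := ⟨0, by omega⟩
  have hT : (Matrix.single i i (1 : F))ᵀ = Matrix.single i i 1 := by
    rw [Matrix.transpose_single]
  obtain ⟨u, hu⟩ := conj_lo_lv h.cop (lo_mem hT) (one_mem _)
  have h1 : u * lv X * u⁻¹ = lv X := by
    rw [Subgroup.mem_center_iff.1 hc u, mul_inv_cancel_right]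
  rw [h1, mul_one] at hu
  have h3 : lo (Matrix.single i i (1 : F)) hT = lo 0 transpose_zero := by
    rw [lo_zero]
    exact (mul_eq_right.1 hu)
  have h4 := congrFun (congrFun (lo_inj h3) i) i
  rw [Matrix.single_apply_same, Matrix.zero_apply] at h4
  exact one_ne_zero h4

/-- a matrix of prime order -/
theorem exists_prime_mat (F : Type*) [Field F] [Finite F] {d : ℕ} (hd : 3 ≤ d) (hodd : Odd d) :
    ∃ (B : GL (Fin d) F) (s : ℕ), s.Prime ∧ 5 ≤ s ∧ RP d (B : Matrix (Fin d) (Fin d) F).charpoly ∧ B ^ s = 1 := by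
  obtain ⟨f, s, hs, h5, hf, -, hdvd⟩ := exists_one' F hd hodd
  obtain ⟨B, hBf, hB, hBdet⟩ := exists_mat (by omega) hf
  obtain ⟨B', hB'⟩ := _root_.Cfsg.Agent.H140.TC.exists_gl (M := B) (det_ne_zero_iff.2 (by rw [hBf]; exact hf.coeff_ne (by omega)))
  refine ⟨B', s, hs, h5, by rw [hB', hBf]; exact hf, Units.ext ?_⟩
  rw [Units.val_pow_eq_pow_val, hB', Units.val_one]
  apply pow_eq_one_of_charpoly
  rw [hBf]
  exact hdvd

/-- **`PSp_2n(q)`, `q` even, `n ≥ 3`** -/
theorem pp_psp_even {n : ℕ} (hn : 3 ≤ n) (F : Type*) [Field F] [Finite F] (h2 : (2 : F) = 0) :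
    H494.TC.PP (Cfsg.PSp n F) := by
  rcases Nat.even_or_odd n with hev | hodd
  · obtain ⟨m, rfl⟩ : ∃ m, n = m + 1 := ⟨n - 1, by omega⟩
    obtain ⟨B, s, hs, h5, hB, hBs⟩ := exists_prime_mat F (d := m) (by
      obtain ⟨a, ha⟩ := hev
      omega) (by
      obtain ⟨a, ha⟩ := hev
      exact ⟨a - 1, by omega⟩)
    refine (pp_of_sp hs h5 (x := _root_.Cfsg.Agent.H140.TC.Sp.em (1, B)) ?_ (not_central_em (by omega) hB) fun g _ => ?_ :)
    · rw [← map_pow, Prod.pow_mk, one_pow, hBs]
      exact map_one _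
    · obtain ⟨t, T, S, hT, hS, e⟩ := exists_lo_up h2 g
      obtain ⟨u, v, e'⟩ := sq_char_two h2 (by omega) hB hT hS
      refine ⟨t⁻¹ * u, t⁻¹ * v, ?_⟩
      have e2 : g = t⁻¹ * (t * g * t⁻¹) * t := by group
      rw [e2, e, e']
      group
  · obtain ⟨X, s, hs, h5, hX, hXs⟩ := exists_prime_mat F (d := n) hn hodd
    refine pp_of_sp hs h5 (x := lv X) ?_ (not_central_lv (by omega) hX) fun g _ => ?_
    · rw [← map_pow, hXs, map_one]
    · obtain ⟨t, T, S, hT, hS, e⟩ := exists_lo_up h2 g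
      obtain ⟨u, v, e'⟩ := sq_lv (by omega) hX hT hS
      refine ⟨t⁻¹ * u, t⁻¹ * v, ?_⟩
      have e2 : g = t⁻¹ * (t * g * t⁻¹) * t := by group
      rw [e2, e, e']
      group

/-- S4173, S2464, S2452 -/
theorem row3_psp_even {n : ℕ} (hn : 3 ≤ n) (F : Type*) [Field F] [Finite F] (h2 : (2 : F) = 0) :
    H210.TC.Row3 (Cfsg.PSp n F) := by
  obtain ⟨x, hx, h6, h⟩ := pp_psp_even hn F h2
  exact H210.TC.Row3.of_sq hx h6 h

end Cfsg.Agent.H126.TC.Sp
end
end
end
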